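import Groth.Agent.QCTopos.Objects
import Groth.Prelude.Def_ToposFin2
import Mathlib.CategoryTheory.Limits.Yoneda
import Mathlib.CategoryTheory.Sites.Continuous
import Mathlib.CategoryTheory.Sites.Pullback

/-! # Algebraic topoi, sites with fibre products, and inverse image functors -/

set_option autoImplicit false
set_option linter.all false
set_option backward.isDefEq.respectTransparency false
set_option backward.defeqAttrib.useBackward true

universe w w' u

open CategoryTheory CategoryTheory.Limits Opposite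

namespace Groth.Agent.QCTopos

open ToposFin Giraud

variable {C : Type u} [SmallCategory C] {J : GrothendieckTopology C} {X Y Z : Sh J}

section Generating

variable {S : Set (Sh J)} (hgen : IsGenerating S) (hqc : ∀ K ∈ S, IsQC K)

include hgen in
lemma gen_of_isGenerating (X : Sh J) :
    ∃ (ι : Type u) (a : ι → S) (π : ∀ i, (a i).1 ⟶ X), Epi (Sigma.desc π) := by
  obtain ⟨ι, F, π, hF, hπ⟩ := hgen X
  exact ⟨ι, fun i => ⟨F i, hF i⟩, π, (epi_desc_iff π).2 hπ⟩

include hgen hqc in
lemma hasQC_of_isGenerating : HasQCGenerators J := fun X => by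
  obtain ⟨ι, F, π, hF, hπ⟩ := hgen X
  exact ⟨ι, F, π, fun i => hqc _ (hF i), (epi_desc_iff π).2 hπ⟩

variable (hpb : ClosedUnderPullbacks S)

include hgen hqc hpb in
lemma coherent_member {K : Sh J} (hK : K ∈ S) : IsCoherent K := by
  refine ⟨hqc K hK, isQS_of_generators (gen_of_isGenerating hgen) (fun a s => ?_)⟩
  refine qcHom_of_generators (gen_of_isGenerating hgen) (fun b t => ?_)
  obtain ⟨P, p, q, hP, h⟩ := hpb s t a.2 b.2 hK
  exact isQC_of_iso h.isoPullback (hqc P hP)

include hgen hqc in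
lemma qsHom_of_member_pairs (hX : IsQS X) (f : X ⟶ Y)
    (h : ∀ (a b : S) (s : a.1 ⟶ Y) (t : b.1 ⟶ Y), IsQS (pullback s t)) : IsQSHom f := by
  obtain ⟨ι, F, π, hF, hπ⟩ := hgen X
  exact qsHom_of_qs_pairs (hasQC_of_isGenerating hgen hqc) f hπ (fun i => hqc _ (hF i))
    (fun i j => h ⟨_, hF i⟩ ⟨_, hF j⟩ _ _) hX

include hgen hqc hpb in
lemma qsHom_to_member {K : Sh J} (hK : K ∈ S) (hX : IsQS X) (f : X ⟶ K) : IsQSHom f := by
  refine qsHom_of_member_pairs hgen hqc hX f (fun a b s t => ?_)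
  obtain ⟨P, p, q, hP, h⟩ := hpb s t a.2 b.2 hK
  exact isQS_of_qsHom (qsHom_of_mono h.isoPullback.inv) (coherent_member hgen hqc hpb hP).2

include hgen hqc hpb in
lemma qsHom_iff_pullback_qs (f : X ⟶ Y) :
    IsQSHom f ↔ ∀ (Y' : Sh J) (g : Y' ⟶ Y), IsQS Y' → IsQS (pullback f g) := by
  refine ⟨fun h Y' g hY' => isQS_of_qsHom (qsHom_baseChange h (IsPullback.of_hasPullback f g)) hY', fun h => ?_⟩
  obtain ⟨ι, F, π, hF, hπ⟩ := hgen Y
  exact qsHom_local (hasQC_of_isGenerating hgen hqc) hπ (fun i => IsPullback.of_hasPullback f (π i))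
    (fun i => qsHom_to_member hgen hqc hpb (hF i) (h _ (π i) (coherent_member hgen hqc hpb (hF i)).2) _)

variable (heq : ClosedUnderEqualizers S)

include hgen hqc hpb heq in
lemma qsHom_of_isQS_algebraic (hX : IsQS X) (f : X ⟶ Y) : IsQSHom f := by
  refine qsHom_of_member_pairs hgen hqc hX f (fun a b x y => ?_)
  have hprod : IsQS (a.1 ⨯ b.1) := by
    refine isQS_of_generators (gen_of_isGenerating hgen) (fun c s => ?_)
    refine qcHom_of_generators (gen_of_isGenerating hgen) (fun d t => ?_)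
    obtain ⟨P, p, q, hP, h⟩ := hpb (s ≫ prod.fst) (t ≫ prod.fst) c.2 d.2 a.2
    obtain ⟨E, e, w, hE, ⟨he⟩⟩ := heq (p ≫ s ≫ prod.snd) (q ≫ t ≫ prod.snd) hP b.2
    have h1 : IsPullback (e ≫ p) (e ≫ q) s t := by
      refine IsPullback.of_isLimit' ⟨?_⟩ ?_
      · refine Limits.prod.hom_ext ?_ ?_
        · simp only [Category.assoc]; rw [h.w]
        · simp only [Category.assoc]; exact w
      · refine PullbackCone.IsLimit.mk _
          (fun r => Fork.IsLimit.lift he (h.lift r.fst r.snd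
            (by rw [← Category.assoc, r.condition, Category.assoc]))
            (by rw [h.lift_fst_assoc, h.lift_snd_assoc, ← Category.assoc, r.condition, Category.assoc]))
          (fun r => ?_) (fun r => ?_) (fun r m h1 h2 => ?_)
        · exact ((Category.assoc _ _ _).symm.trans (congrArg (· ≫ p) (Fork.IsLimit.lift_ι' he _ _))).trans (h.lift_fst _ _ _)
        · exact ((Category.assoc _ _ _).symm.trans (congrArg (· ≫ q) (Fork.IsLimit.lift_ι' he _ _))).trans (h.lift_snd _ _ _)
        · refine Fork.IsLimit.hom_ext he ?_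
          refine Eq.trans ?_ (Fork.IsLimit.lift_ι' he _ _).symm
          exact h.hom_ext (by rw [h.lift_fst]; exact (Category.assoc _ _ _).trans h1)
            (by rw [h.lift_snd]; exact (Category.assoc _ _ _).trans h2)
    exact isQC_of_iso h1.isoPullback (hqc E hE)
  let l := prod.lift (pullback.fst x y) (pullback.snd x y)
  haveI : Mono l := ⟨fun u v e => pullback.hom_ext
    (((congrArg (u ≫ ·) (prod.lift_fst (pullback.fst x y) (pullback.snd x y))).symm.trans
      ((Category.assoc _ _ _).symm.trans ((congrArg (· ≫ prod.fst) e).trans (Category.assoc _ _ _)))).trans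
      (congrArg (v ≫ ·) (prod.lift_fst _ _)))
    (((congrArg (u ≫ ·) (prod.lift_snd (pullback.fst x y) (pullback.snd x y))).symm.trans
      ((Category.assoc _ _ _).symm.trans ((congrArg (· ≫ prod.snd) e).trans (Category.assoc _ _ _)))).trans
      (congrArg (v ≫ ·) (prod.lift_snd _ _)))⟩
  exact isQS_of_qsHom (qsHom_of_mono l) hprod

end Generating

lemma qsHom_of_isQS_of_isAlgebraic (hE : IsAlgebraic J) (hX : IsQS X) (f : X ⟶ Y) : IsQSHom f := by
  obtain ⟨S, hqc, hgen, hpb, heq⟩ := hE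
  exact qsHom_of_isQS_algebraic hgen hqc hpb heq hX f

lemma isCoherent_iff_cohHom (hE : IsAlgebraic J) (hY : IsCoherent Y) (f : X ⟶ Y) :
    IsCoherent X ↔ IsCohHom f := by
  refine ⟨fun h => ⟨qcHom_of_isQS hY.2 h.1 f, qsHom_of_isQS_of_isAlgebraic hE h.2 f⟩, fun h => ⟨?_, isQS_of_qsHom h.2 hY.2⟩⟩
  exact qcHom_pullback h.1 (IsPullback.id_horiz f) hY.1

lemma algebraic_local (hE : IsAlgebraic J) (f : X ⟶ Y) {ι : Type u} {Yi : ι → Sh J} {g : ∀ i, Yi i ⟶ Y} (hg : JE g) :
    ((∀ i, IsQS (Yi i)) → (IsQSHom f ↔ ∀ i, IsQS (pullback f (g i)))) ∧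
    ((∀ i, IsCoherent (Yi i)) → (IsCohHom f ↔ ∀ i, IsCoherent (pullback f (g i)))) := by
  have hQ : HasQCGenerators J := by
    obtain ⟨S, hqc, hgen, -, -⟩ := hE
    exact hasQC_of_isGenerating hgen hqc
  have hP := fun i => IsPullback.of_hasPullback f (g i)
  refine ⟨fun hY => ⟨fun h i => isQS_of_qsHom (qsHom_baseChange h (hP i)) (hY i),
    fun h => qsHom_local hQ hg hP (fun i => qsHom_of_isQS_of_isAlgebraic hE (h i) _)⟩, fun hY => ?_⟩
  exact ⟨fun h i => (isCoherent_iff_cohHom hE (hY i) (pullback.snd f (g i))).2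
      ⟨qcHom_baseChange h.1 (hP i), qsHom_baseChange h.2 (hP i)⟩,
    fun h => ⟨qcHom_local hQ hg hP (fun i => qcHom_of_isQS (hY i).2 (h i).1 _),
      qsHom_local hQ hg hP (fun i => qsHom_of_isQS_of_isAlgebraic hE (h i).2 _)⟩⟩

/-! ### sites with fibre products and quasi-compact objects -/

section Site

lemma gen_free (X : Sh J) :
    ∃ (ι : Type u) (a : ι → C) (π : ∀ i, freeSheaf (K := J) (a i) ⟶ X), Epi (Sigma.desc π) :=
  ⟨Σ c, (freeSheaf (K := J) c ⟶ X), fun p => p.1, fun p => p.2, (epi_desc_iff _).2 (je_of_cov (cov_free J X))⟩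

variable (hC : ∀ c : C, IsQCSite J c)

include hC in
lemma hasQC_site : HasQCGenerators J := fun X => by
  obtain ⟨ι, a, π, h⟩ := gen_free X
  exact ⟨ι, _, π, fun i => (isQCSite_iff _).1 (hC _), h⟩

include hC in
lemma free_finite_local {v c : C} (a : freeSheaf (K := J) v ⟶ freeSheaf (K := J) c) :
    ∃ (n : ℕ) (V : Fin n → C) (g : ∀ k, V k ⟶ v), JE (fun k => freeMap J (g k)) ∧
      ∀ k, ∃ h : V k ⟶ c, freeMap J (g k) ≫ a = freeMap J h := by
  obtain ⟨R, hR, hR'⟩ := free_local J a
  obtain ⟨n, V, g, hg, hcov⟩ := hC v R hR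
  refine ⟨n, V, g, (je_of_cov (free_cover J hcov)).of_factor ?_, fun k => hR' (g k) (hg k)⟩
  rintro ⟨c', u, hu⟩
  obtain ⟨k, b, rfl⟩ := (Sieve.mem_ofArrows_iff _ _ u).1 hu
  exact ⟨k, freeMap J b, ((yoneda ⋙ presheafToSheaf J (Type u)).map_comp b (g k)).symm⟩

variable [HasPullbacks C]

lemma isPullback_free {a b c : C} (f : a ⟶ c) (g : b ⟶ c) :
    IsPullback (freeMap J (pullback.fst f g)) (freeMap J (pullback.snd f g)) (freeMap J f) (freeMap J g) :=
  ((IsPullback.of_hasPullback f g).map yoneda).map (presheafToSheaf J (Type u))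

include hC in
lemma coherent_free (c : C) : IsCoherent (freeSheaf (K := J) c) := by
  refine ⟨(isQCSite_iff c).1 (hC c), isQS_of_generators gen_free (fun v s => ?_)⟩
  refine qcHom_of_generators gen_free (fun w t => ?_)
  obtain ⟨n, V, g, hg, hh⟩ := free_finite_local hC s
  obtain ⟨m, W, g', hg', hh'⟩ := free_finite_local hC t
  refine isQC_pullback_of_cover s t hg (fun k => ?_)
  refine isQC_pullback_of_cover_right _ t hg' (fun l => ?_)
  obtain ⟨h, e⟩ := hh k
  obtain ⟨h', e'⟩ := hh' l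
  exact isQC_of_iso ((isPullback_free h h').isoPullback ≪≫ (pullback.congrHom e e').symm)
    ((isQCSite_iff _).1 (hC _))

include hC in
lemma qsHom_freeMap {a c : C} (h : a ⟶ c) : IsQSHom (freeMap J h) := by
  have e : ∀ q : pullback h h ⟶ a, pullback.lift (𝟙 a) (𝟙 a) rfl ≫ q = 𝟙 a →
      freeMap J (pullback.lift (𝟙 a) (𝟙 a) rfl : a ⟶ pullback h h) ≫ freeMap J q = 𝟙 (freeSheaf (K := J) a) := by
    intro q hq
    refine ((yoneda ⋙ presheafToSheaf J (Type u)).map_comp _ q).symm.trans ?_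
    rw [hq]
    exact (yoneda ⋙ presheafToSheaf J (Type u)).map_id a
  exact (qsHom_iff (isPullback_free h h) (d := freeMap J (pullback.lift (𝟙 a) (𝟙 a) rfl)) (e _ (pullback.lift_fst _ _ _))
    (e _ (pullback.lift_snd _ _ _))).2 (qcHom_of_isQS (coherent_free hC _).2 (coherent_free hC a).1 _)

include hC in
lemma qsHom_free_free {v c : C} (s : freeSheaf (K := J) v ⟶ freeSheaf (K := J) c) : IsQSHom s := by
  obtain ⟨n, V, g, hg, hh⟩ := free_finite_local hC s
  refine qsHom_of_source_cover (hasQC_site hC) s (ι := ULift.{u} (Fin n))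
    (hg.reindex ULift.down (fun k => ⟨⟨k⟩, rfl⟩)) (fun k => ?_) (fun k => ?_)
  · exact qcHom_of_isQS (coherent_free hC v).2 (coherent_free hC _).1 _
  · obtain ⟨h, e⟩ := hh k.down
    rw [e]
    exact qsHom_freeMap hC h

include hC in
lemma qsHom_to_free {G : Sh J} (hG : IsQS G) {c : C} (g : G ⟶ freeSheaf (K := J) c) : IsQSHom g := by
  refine qsHom_of_qs_pairs (hasQC_site hC) g (je_of_cov (cov_free J G)) (fun p => (coherent_free hC _).1)
    (fun p q => ?_) hG
  exact isQS_of_qsHom (qsHom_baseChange (qsHom_free_free hC (p.2 ≫ g)) (IsPullback.of_hasPullback _ _))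
    (coherent_free hC _).2

end Site

/-! ### inverse image functors -/

section Pullback

variable {D : Type u} [SmallCategory D] {K : GrothendieckTopology D} {F : Sh K ⥤ Sh J} {R : Sh J ⥤ Sh K}
  (adj : F ⊣ R) [PreservesFiniteLimits F]

include adj in
lemma je_map {ι : Type w} {A : Sh K} {G : ι → Sh K} {π : ∀ i, G i ⟶ A} (h : JE π) : JE (fun i => F.map (π i)) := by
  intro Z a b e
  apply (adj.homEquiv A Z).injective
  refine h _ _ _ (fun i => ?_)
  rw [← adj.homEquiv_naturality_left, ← adj.homEquiv_naturality_left, e]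

variable {S : Set (Sh K)}

include adj in
lemma map_qc (hgen : IsGenerating S) (h : ∀ A ∈ S, IsQC (F.obj A)) {A : Sh K} (hA : IsQC A) : IsQC (F.obj A) := by
  obtain ⟨κ, hκ, a, π, hπ⟩ := qc_fin_cover hA (gen_of_isGenerating hgen A)
  exact isQC_of_finite_cover (je_map adj hπ) (fun k => h _ (a k).2)

include adj in
lemma map_qs (hE' : HasQCGenerators J) (hqc : ∀ A ∈ S, IsQC A) (hgen : IsGenerating S)
    (h : ∀ A ∈ S, IsCoherent (F.obj A)) {A : Sh K} (hA : IsQS A) : IsQS (F.obj A) := by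
  obtain ⟨ι, G, π, hG, hπ⟩ := hgen A
  have hπ' := je_map adj hπ
  refine isQS_of_cover hπ' (fun i => (h _ (hG i)).2) (qcHom_of_pairwise hE' hπ' (fun i => h _ (hG i)) (fun i j => ?_))
  exact isQC_of_iso ((IsPullback.of_hasPullback (π i) (π j)).map F).isoPullback
    (map_qc adj hgen (fun B hB => (h B hB).1) (hA _ _ _ _ (hqc _ (hG i)) (hqc _ (hG j))))

include adj in
lemma map_qcHom (hE' : HasQCGenerators J) (hqc : ∀ A ∈ S, IsQC A) (hgen : IsGenerating S)
    (hpb : ClosedUnderPullbacks S) (hFqc : ∀ A : Sh K, IsQC A → IsQC (F.obj A))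
    (hFqs : ∀ A : Sh K, IsQS A → IsQS (F.obj A)) {A B : Sh K} (v : A ⟶ B) (hv : IsQCHom v) :
    IsQCHom (F.map v) := by
  obtain ⟨ι, G, π, hG, hπ⟩ := hgen B
  exact qcHom_local hE' (je_map adj hπ) (fun i => (IsPullback.of_hasPullback v (π i)).map F)
    (fun i => qcHom_of_isQS (hFqs _ (coherent_member hgen hqc hpb (hG i)).2) (hFqc _ (hv _ (π i) (hqc _ (hG i)))) _)

end Pullback

noncomputable def freeCorep (c : C) :
    (sheafToPresheaf J (Type u) ⋙ (evaluation _ _).obj (op c)).CorepresentableBy (freeSheaf (K := J) c) where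
  homEquiv {T} := freeSheafEquiv c T
  homEquiv_comp g t := freeSheafEquiv_comp t g

lemma nonempty_sheafPullback_free {D : Type u} [SmallCategory D] (K : GrothendieckTopology D) (G : C ⥤ D)
    [Functor.IsContinuous G J K] (c : C) :
    Nonempty ((G.sheafPullback (Type u) J K).obj (freeSheaf (K := J) c) ≅ freeSheaf (K := K) (G.obj c)) := by
  let adj := G.sheafAdjunctionContinuous (Type u) J K
  let h1 : (sheafToPresheaf K (Type u) ⋙ (evaluation _ _).obj (op (G.obj c))).CorepresentableBy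
      ((G.sheafPullback (Type u) J K).obj (freeSheaf (K := J) c)) :=
    { homEquiv := fun {T} => (adj.homEquiv _ T).trans (freeSheafEquiv c _)
      homEquiv_comp := fun {T T'} g t => by
        show freeSheafEquiv c _ (adj.homEquiv _ _ (t ≫ g)) = _
        rw [adj.homEquiv_naturality_right, freeSheafEquiv_comp]
        rfl }
  exact ⟨h1.uniqueUpToIso (freeCorep (J := K) (G.obj c))⟩

end Groth.Agent.QCTopos
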