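import Groth.Agent.Giraud.CanonicalSheaves
import Groth.Prelude.Def_SGA4c

/-! # Jointly epimorphic families and quasi-compact objects in a sheaf topos -/

set_option autoImplicit false
set_option linter.all false
set_option backward.isDefEq.respectTransparency false
set_option backward.defeqAttrib.useBackward true

universe w w' u

open CategoryTheory CategoryTheory.Limits Opposite

namespace Groth.Agent.QCTopos

open ToposFin Giraud

variable {C : Type u} [SmallCategory C] {J : GrothendieckTopology C}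

/-- jointly epimorphic family -/
def JE {ι : Type w} {X : Sh J} {F : ι → Sh J} (π : ∀ i, F i ⟶ X) : Prop :=
  ∀ (Z : Sh J) (a b : X ⟶ Z), (∀ i, π i ≫ a = π i ≫ b) → a = b

lemma epi_desc_iff {ι : Type w} {X : Sh J} {F : ι → Sh J} [HasCoproduct F] (π : ∀ i, F i ⟶ X) :
    Epi (Sigma.desc π) ↔ JE π := by
  refine ⟨fun h Z a b e => (cancel_epi (Sigma.desc π)).1 (Sigma.hom_ext _ _ (fun i => by simpa using e i)),
    fun h => ⟨fun a b e => h _ a b (fun i => by simpa using congrArg (Sigma.ι F i ≫ ·) e)⟩⟩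

lemma JE.of_factor {ι : Type w} {κ : Type w'} {X : Sh J} {F : ι → Sh J} {π : ∀ i, F i ⟶ X} (h : JE π)
    {G : κ → Sh J} {ρ : ∀ k, G k ⟶ X} (hf : ∀ i, ∃ k l, l ≫ ρ k = π i) : JE ρ := by
  intro Z a b e
  refine h Z a b (fun i => ?_)
  obtain ⟨k, l, hl⟩ := hf i
  rw [← hl, Category.assoc, Category.assoc, e]

lemma je_of_epi {A X : Sh J} (p : A ⟶ X) [Epi p] : JE (fun _ : PUnit.{w + 1} => p) :=
  fun Z a b e => (cancel_epi p).1 (e ⟨⟩)

lemma je_of_isColimit {ι : Type w} {F : ι → Sh J} {c : Cofan F} (hc : IsColimit c) : JE c.inj :=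
  fun Z a b e => Cofan.IsColimit.hom_ext hc a b e

lemma JE.cov {ι : Type u} {X : Sh J} {F : ι → Sh J} {π : ∀ i, F i ⟶ X} (h : JE π) : Cov π := by
  intro M m hm hh
  haveI : Epi m := ⟨fun a b e => h _ a b (fun i => by
    obtain ⟨l, hl⟩ := hh i
    rw [← hl, Category.assoc, Category.assoc, e])⟩
  exact isIso_of_mono_of_epi m

lemma je_of_cov {ι : Type u} {X : Sh J} {F : ι → Sh J} {π : ∀ i, F i ⟶ X} (h : Cov π) : JE π :=
  fun Z a b e => h.hom_ext e

lemma JE.reindex {ι : Type w} {κ : Type w'} {X : Sh J} {F : ι → Sh J} {π : ∀ i, F i ⟶ X} (h : JE π) (e : κ → ι)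
    (he : Function.Surjective e) : JE (fun k => π (e k)) :=
  h.of_factor (fun i => by
    obtain ⟨k, rfl⟩ := he i
    exact ⟨k, 𝟙 _, Category.id_comp _⟩)

/-- base change of a family -/
lemma JE.pullback {ι : Type w} [Small.{u} ι] {X : Sh J} {F : ι → Sh J} {π : ∀ i, F i ⟶ X} (h : JE π)
    {V : Sh J} (g : V ⟶ X) {P : ι → Sh J} {p : ∀ i, P i ⟶ F i} {q : ∀ i, P i ⟶ V}
    (hP : ∀ i, IsPullback (p i) (q i) (π i) g) : JE q := by
  have h' : JE (fun k : Shrink.{u} ι => π ((equivShrink ι).symm k)) := h.reindex _ (equivShrink ι).symm.surjective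
  refine (je_of_cov ((sheafAxioms J).cov_pullback h'.cov g)).of_factor (fun k => ?_)
  exact ⟨(equivShrink ι).symm k, (hP _).lift _ _ pullback.condition, IsPullback.lift_snd _ _ _ _⟩

lemma JE.pullback_snd {ι : Type w} [Small.{u} ι] {X : Sh J} {F : ι → Sh J} {π : ∀ i, F i ⟶ X} (h : JE π)
    {V : Sh J} (g : V ⟶ X) : JE (fun i => pullback.snd (π i) g) :=
  h.pullback g (fun i => IsPullback.of_hasPullback _ _)

lemma JE.pullback_fst {ι : Type w} [Small.{u} ι] {X : Sh J} {F : ι → Sh J} {π : ∀ i, F i ⟶ X} (h : JE π)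
    {V : Sh J} (g : V ⟶ X) : JE (fun i => pullback.fst g (π i)) :=
  h.pullback g (fun i => (IsPullback.of_hasPullback g (π i)).flip)

lemma JE.trans {ι : Type w} {X : Sh J} {F : ι → Sh J} {π : ∀ i, F i ⟶ X} (h : JE π) {κ : ι → Type w'}
    {G : ∀ i, κ i → Sh J} {ρ : ∀ i k, G i k ⟶ F i} (hρ : ∀ i, JE (ρ i)) :
    JE (fun p : Σ i, κ i => ρ p.1 p.2 ≫ π p.1) := by
  intro Z a b e
  refine h Z a b (fun i => hρ i Z _ _ (fun k => ?_))
  simpa using e ⟨i, k⟩

/-- every section of the target of a jointly epimorphic family comes locally from the sources -/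
lemma JE.exists_cover {ι : Type u} {X : Sh J} {F : ι → Sh J} {π : ∀ i, F i ⟶ X} (h : JE π) {c : C}
    (t : freeSheaf (K := J) c ⟶ X) :
    ∃ R ∈ J c, ∀ ⦃c' : C⦄ (g : c' ⟶ c), R g → ∃ i, ∃ l : freeSheaf (K := J) c' ⟶ F i, l ≫ π i = freeMap J g ≫ t := by
  haveI : Epi (Sigma.desc π) := (epi_desc_iff π).2 h
  haveI : Sheaf.IsLocallySurjective (Sigma.desc π) := (Sheaf.isLocallySurjective_iff_epi' (Type u) _).2 inferInstance
  haveI : Presheaf.IsLocallySurjective J (Sigma.desc π).hom := this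
  have h1 := Presheaf.imageSieve_mem J (Sigma.desc π).hom (U := op c) (freeSheafEquiv c X t)
  let R : Sieve c := Sieve.mk (fun c' g => ∃ i, ∃ l : freeSheaf (K := J) c' ⟶ F i, l ≫ π i = freeMap J g ≫ t)
    (by
      rintro c' c'' g ⟨i, l, hl⟩ k
      refine ⟨i, freeMap J k ≫ l, ?_⟩
      rw [Category.assoc, hl, ← Category.assoc]
      exact congrArg (· ≫ t) ((yoneda ⋙ presheafToSheaf J (Type u)).map_comp k g).symm)
  refine ⟨R, J.transitive h1 R ?_, fun c' g hg => hg⟩
  rintro c' g ⟨y, hy⟩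
  obtain ⟨R', hR', h2⟩ := exists_cover_of_isColimit (Cofan.mk (∐ F) (Sigma.ι F)) (coproductIsCoproduct F) y
  refine J.superset_covering ?_ hR'
  intro c'' g' hg'
  obtain ⟨⟨i⟩, z, hz⟩ := h2 g' hg'
  refine ⟨i, (freeSheafEquiv c'' (F i)).symm z, (freeSheafEquiv c'' X).injective ?_⟩
  have e : (Sigma.ι F i ≫ Sigma.desc π).hom.app (op c'') z = (π i).hom.app (op c'') z := by
    rw [Sigma.ι_desc]
  rw [freeSheafEquiv_comp, Equiv.apply_symm_apply, freeSheafEquiv_freeMap, ← e]
  refine (congrArg ((Sigma.desc π).hom.app (op c'')) hz).trans ?_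
  refine (NatTrans.naturality_apply (Sigma.desc π).hom g'.op y).trans ?_
  rw [hy, op_comp, Functor.map_comp_apply]

/-! ### quasi-compact objects -/

lemma qc_finite {X : Sh J} (hX : IsQC X) {ι : Type u} {F : ι → Sh J} {π : ∀ i, F i ⟶ X} (h : JE π) :
    ∃ s : Finset ι, JE (fun i : s => π i) := by
  obtain ⟨s, hs⟩ := hX ι F π ((epi_desc_iff π).2 h)
  exact ⟨s, (epi_desc_iff _).1 hs⟩

lemma isQC_of_je {X : Sh J} (h : ∀ (ι : Type u) (F : ι → Sh J) (π : ∀ i, F i ⟶ X), JE π →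
    ∃ s : Finset ι, JE (fun i : s => π i)) : IsQC X := fun ι F π hπ => by
  obtain ⟨s, hs⟩ := h ι F π ((epi_desc_iff π).1 hπ)
  exact ⟨s, (epi_desc_iff _).2 hs⟩

lemma isQC_of_finite_cover {X : Sh J} {κ : Type w} [Finite κ] {F : κ → Sh J} {π : ∀ k, F k ⟶ X} (h : JE π)
    (hF : ∀ k, IsQC (F k)) : IsQC X := by
  classical
  haveI : Fintype κ := Fintype.ofFinite κ
  refine isQC_of_je (fun ι G ρ hρ => ?_)
  have hk : ∀ k, ∃ s : Finset ι, JE (fun i : s => pullback.snd (ρ i) (π k)) := fun k =>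
    qc_finite (hF k) (hρ.pullback_snd (π k))
  choose s hs using hk
  refine ⟨Finset.univ.biUnion s, (h.trans hs).of_factor ?_⟩
  rintro ⟨k, i⟩
  exact ⟨⟨i.1, Finset.mem_biUnion.2 ⟨k, Finset.mem_univ _, i.2⟩⟩, pullback.fst _ _, pullback.condition⟩

lemma isQC_of_epi {A X : Sh J} (p : A ⟶ X) [Epi p] (hA : IsQC A) : IsQC X :=
  isQC_of_finite_cover (je_of_epi.{0} p) (fun _ => hA)

lemma isQC_of_iso {A X : Sh J} (e : A ≅ X) (hA : IsQC A) : IsQC X := isQC_of_epi e.hom hA

/-- a quasi-compact object of a topos generated by a family is covered by finitely many members -/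
lemma qc_fin_cover {X : Sh J} (hX : IsQC X) {α : Type w} {G : α → Sh J}
    (hgen : ∃ (ι : Type u) (a : ι → α) (π : ∀ i, G (a i) ⟶ X), Epi (Sigma.desc π)) :
    ∃ (κ : Type u) (_ : Finite κ) (a : κ → α) (π : ∀ k, G (a k) ⟶ X), JE π := by
  obtain ⟨ι, a, π, hπ⟩ := hgen
  obtain ⟨s, hs⟩ := qc_finite hX ((epi_desc_iff π).1 hπ)
  exact ⟨s, inferInstance, fun i => a i, fun i => π i, hs⟩

/-! ### initial objects and summands -/

/-- an object covered by the empty family is initial -/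
lemma nonempty_isInitial {X : Sh J} {F : PEmpty.{u + 1} → Sh J} {π : ∀ i, F i ⟶ X} (h : JE π) :
    Nonempty (IsInitial X) := by
  have hex : ∀ Z, Nonempty (X ⟶ Z) := fun Z =>
    ⟨((sheafAxioms J).exists_desc h.cov (fun k => k.elim) (fun k => k.elim)).choose⟩
  exact ⟨IsInitial.ofUniqueHom (fun Z => (hex Z).some) (fun Z m => h Z _ _ (fun k => k.elim))⟩

/-- initial objects are strict -/
lemma nonempty_isInitial_of_hom {A I : Sh J} (g : A ⟶ I) (hI : IsInitial I) : Nonempty (IsInitial A) :=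
  nonempty_isInitial (JE.pullback_snd (F := fun _ : PEmpty.{u + 1} => I) (π := fun _ => 𝟙 I)
    (fun Z a b _ => hI.hom_ext a b) g)

lemma isQC_of_isInitial {X : Sh J} (hX : IsInitial X) : IsQC X :=
  isQC_of_je (fun ι F π _ => ⟨∅, fun Z a b _ => hX.hom_ext a b⟩)

lemma inj_mono {ι : Type u} {F : ι → Sh J} {c : Cofan F} (hc : IsColimit c) (i : ι) : Mono (c.inj i) := by
  haveI := (sheafAxioms J).cofan_disjoint F
  exact Mono.of_coproductDisjoint hc i

lemma inj_disjoint {ι : Type u} {F : ι → Sh J} {c : Cofan F} (hc : IsColimit c) {i j : ι} (h : i ≠ j) :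
    Nonempty (IsInitial (Limits.pullback (c.inj i) (c.inj j))) := by
  haveI := (sheafAxioms J).cofan_disjoint F
  exact ⟨IsInitial.ofCoproductDisjointOfIsColimit h hc⟩

/-- pieces of a finite disjoint covering of a quasi-compact object -/
lemma summand_isQC {ι : Type u} {A : Sh J} {F : ι → Sh J} {π : ∀ i, F i ⟶ A} (hπ : JE π)
    (hmono : ∀ i, Mono (π i)) (hdisj : ∀ i j, i ≠ j → Nonempty (IsInitial (Limits.pullback (π i) (π j))))
    (hA : IsQC A) : (∀ i, IsQC (F i)) ∧ {i | ¬ Nonempty (IsInitial (F i))}.Finite := by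
  classical
  constructor
  · intro i
    refine isQC_of_je (fun κ G ρ hρ => ?_)
    let F' : {j // j ≠ i} ⊕ κ → Sh J := Sum.elim (fun j => F j.1) G
    let π' : ∀ x, F' x ⟶ A := fun x =>
      match x with
      | .inl j => π j.1
      | .inr k => ρ k ≫ π i
    have hπ' : JE π' := by
      intro Z a b e
      refine hπ Z a b (fun j => ?_)
      by_cases hj : j = i
      · subst hj
        exact hρ Z _ _ (fun k => by simpa [π'] using e (.inr k))
      · exact e (.inl ⟨j, hj⟩)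
    obtain ⟨s, hs⟩ := qc_finite hA hπ'
    refine ⟨s.toRight, fun Z a b e => ?_⟩
    refine hs.pullback_snd (π i) Z a b ?_
    rintro ⟨x, hx⟩
    match x, hx with
    | .inl j, hx =>
      exact (hdisj j.1 i j.2).some.hom_ext _ _
    | .inr k, hx =>
      haveI := hmono i
      have hfac : pullback.snd (ρ k ≫ π i) (π i) = pullback.fst (ρ k ≫ π i) (π i) ≫ ρ k :=
        (cancel_mono (π i)).1 (pullback.condition.symm.trans (Category.assoc _ _ _).symm)
      show pullback.snd (ρ k ≫ π i) (π i) ≫ a = pullback.snd (ρ k ≫ π i) (π i) ≫ b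
      rw [hfac, Category.assoc, Category.assoc, e ⟨k, Finset.mem_toRight.2 hx⟩]
  · obtain ⟨s, hs⟩ := qc_finite hA hπ
    refine s.finite_toSet.subset (fun i hi => by_contra fun his => hi ?_)
    refine nonempty_isInitial (F := fun x => x.elim) (π := fun x => x.elim) ?_
    intro Z a b _
    refine hs.pullback_snd (π i) Z a b (fun j => (hdisj j.1 i ?_).some.hom_ext _ _)
    intro hji
    exact his (hji ▸ j.2)

end Groth.Agent.QCTopos
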