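import Groth.Agent.CohAcyc.Abstract

/-! # Čech criterion with composite terms -/

set_option autoImplicit false
set_option linter.all false

universe w v u

open CategoryTheory CategoryTheory.Limits CategoryTheory.Abelian

namespace Groth.Agent.QCTopos

open Groth.Agent.CohAcyc

variable {A : Type u} [Category.{v} A] [Abelian A] [HasExt.{w} A]

section Criterion

variable [EnoughInjectives A] {T : Type*} (Z : T → A)
  (Good : ∀ (k : T) (P : ChainComplex A ℕ), (P.X 0 ⟶ Z k) → Prop)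

/-- The Čech criterion: if objects `Z k` have enough resolutions by objects of the family to kill all
lifting problems, and `Hom(-, F)` keeps them exact, then all higher `Ext(Z k, F)` vanish. -/
theorem subsingleton_of_homExact'
    (lift : ∀ {I Q : A} (g : I ⟶ Q) [Epi g] (k : T) (s : Z k ⟶ Q),
      ∃ (P : ChainComplex A ℕ) (ε : P.X 0 ⟶ Z k), Good k P ε ∧ ∃ t : P.X 0 ⟶ I, t ≫ g = ε ≫ s)
    (hres : ∀ {k P ε}, Good k P ε → IsRes P ε)
    (hterm : ∀ {k P ε}, Good k P ε → ∀ (n : ℕ) (F : A), (∀ j, Subsingleton (Ext (Z j) F 1)) → Subsingleton (Ext (P.X n) F 1))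
    (q : ℕ) : ∀ (F : A),
      (∀ (k : T) (P : ChainComplex A ℕ) (ε : P.X 0 ⟶ Z k), Good k P ε → HomExact P F) → ∀ k, Subsingleton (Ext (Z k) F (q + 1)) := by
  intro F
  induction q using Nat.strong_induction_on generalizing F with
  | _ q ih =>
  intro hF
  let S := ShortComplex.mk (Injective.ι F) (cokernel.π _) (cokernel.condition _)
  have hS : S.ShortExact := { exact := ShortComplex.exact_cokernel _ }
  have h1 : ∀ k, Subsingleton (Ext (Z k) F 1) := fun k => by
    refine subsingleton_one_of_lift hS (Ext.subsingleton_of_injective _ _ 0) fun s => ?_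
    obtain ⟨P, ε, hG, t, ht⟩ := lift S.g k s
    have hP := hres hG
    replace ht : t ≫ S.g = ε ≫ s := ht
    obtain ⟨a, ha⟩ : ∃ a, a ≫ S.f = P.d 1 0 ≫ t :=
      ⟨_, hS.fIsKernel.fac (KernelFork.ofι (P.d 1 0 ≫ t) (by
        rw [Category.assoc, ht, reassoc_of% hP.w, zero_comp])) WalkingParallelPair.zero⟩
    haveI := hS.mono_f
    obtain ⟨b, hb⟩ := hF k P ε hG 0 a (by rw [← cancel_mono S.f, Category.assoc, ha, P.d_comp_d_assoc,
      zero_comp, zero_comp])
    obtain ⟨ψ, hψ⟩ := hP.desc (t - b ≫ S.f) (by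
      rw [Preadditive.comp_sub, ← Category.assoc, hb, ha, sub_self])
    refine ⟨ψ, ?_⟩
    haveI := hP.epi
    rw [← cancel_epi ε, reassoc_of% hψ, Preadditive.sub_comp, Category.assoc, S.zero, comp_zero, sub_zero, ht]
  rcases q with _ | q
  · exact h1
  intro k
  refine subsingleton_succ_of_ses hS (ih q (Nat.lt_succ_self q) S.X₃ (fun j P ε hG n φ hφ => ?_) k)
    (Ext.subsingleton_of_injective _ _ (q + 1))
  have hP := hres hG
  have hPZ := hterm hG
  have hl : ∀ (n : ℕ) (s : P.X n ⟶ S.X₃), ∃ t : P.X n ⟶ S.X₂, t ≫ S.g = s := fun n s => by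
    exact lift_of_subsingleton hS (hPZ n F h1) s
  obtain ⟨φ', hφ'⟩ := hl (n + 1) φ
  obtain ⟨a, ha⟩ : ∃ a, a ≫ S.f = P.d (n + 2) (n + 1) ≫ φ' :=
    ⟨_, hS.fIsKernel.fac (KernelFork.ofι (P.d (n + 2) (n + 1) ≫ φ') (by
      rw [Category.assoc, hφ', hφ])) WalkingParallelPair.zero⟩
  haveI := hS.mono_f
  obtain ⟨b, hb⟩ := hF j P ε hG (n + 1) a (by
    rw [← cancel_mono S.f, Category.assoc, ha, P.d_comp_d_assoc, zero_comp, zero_comp])
  obtain ⟨c, hc⟩ := homExact_of_injective hP S.X₂ n (φ' - b ≫ S.f) (by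
    rw [Preadditive.comp_sub, ← Category.assoc, hb, ha, sub_self])
  refine ⟨c ≫ S.g, ?_⟩
  rw [← Category.assoc, hc, Preadditive.sub_comp, Category.assoc, S.zero, comp_zero, sub_zero, hφ']

end Criterion

end Groth.Agent.QCTopos
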