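import Groth.Agent.QCTopos.Coprod
import Mathlib.CategoryTheory.Limits.Types.ColimitTypeFiltered
import Mathlib.CategoryTheory.Limits.Types.Filtered
import Mathlib.CategoryTheory.Filtered.Basic

/-! # Morphisms from quasi-compact and coherent objects into filtered colimits of sheaves -/

set_option autoImplicit false
set_option linter.all false
set_option backward.isDefEq.respectTransparency false
set_option backward.defeqAttrib.useBackward true

universe w w' u

open CategoryTheory CategoryTheory.Limits Opposite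

namespace Groth.Agent.QCTopos

open ToposFin Giraud

variable {C : Type u} [SmallCategory C] {J : GrothendieckTopology C} {X : Sh J}
  {I : Type u} [SmallCategory I] [IsFiltered I]

lemma exists_above {i : I} (s : Finset (Σ k, (i ⟶ k))) :
    ∃ (k : I) (f : i ⟶ k), ∀ p ∈ s, ∃ h : p.1 ⟶ k, p.2 ≫ h = f := by
  classical
  induction s using Finset.induction with
  | empty => exact ⟨i, 𝟙 i, by simp⟩
  | @insert p s hp ih =>
    obtain ⟨k, f, hf⟩ := ih
    obtain ⟨l, a, b, hab⟩ := IsFiltered.span p.2 f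
    refine ⟨l, f ≫ b, fun q hq => ?_⟩
    rcases Finset.mem_insert.1 hq with rfl | hq
    · exact ⟨a, hab⟩
    · obtain ⟨h, hh⟩ := hf q hq
      exact ⟨h ≫ b, by rw [reassoc_of% hh]⟩

variable {D : I ⥤ Sh J} {c : Cocone D} (hc : IsColimit c)

include hc in
lemma qc_eventually_eq (hX : IsQC X) {i : I} {a b : X ⟶ D.obj i} (h : a ≫ c.ι.app i = b ≫ c.ι.app i) :
    ∃ (k : I) (f : i ⟶ k), a ≫ D.map f = b ≫ D.map f := by
  have hje : JE (fun p : Σ k, (i ⟶ k) => equalizer.ι (a ≫ D.map p.2) (b ≫ D.map p.2)) := by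
    intro Z u v e
    refine (cov_free J X).hom_ext (fun ⟨d, t⟩ => ?_)
    have hxy : (c.ι.app i).hom.app (op d) (freeSheafEquiv d _ (t ≫ a)) =
        (c.ι.app i).hom.app (op d) (freeSheafEquiv d _ (t ≫ b)) := by
      rw [← freeSheafEquiv_comp, ← freeSheafEquiv_comp, Category.assoc, Category.assoc, h]
    obtain ⟨R, hR, hzz⟩ := exists_zigzag J hc (freeSheafEquiv d _ (t ≫ a)) (freeSheafEquiv d _ (t ≫ b)) hxy
    refine (free_cover J hR).hom_ext (fun ⟨d', g, hg⟩ => ?_)
    have h1 := Quot.eqvGen_sound (hzz g hg)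
    obtain ⟨k, f, hf⟩ := (Functor.ιColimitType_eq_iff_of_isFiltered' _ _ _).1 h1
    have hw : (freeMap J g ≫ t) ≫ a ≫ D.map f = (freeMap J g ≫ t) ≫ b ≫ D.map f := by
      apply (freeSheafEquiv d' _).injective
      have e : ∀ r : freeSheaf (K := J) d ⟶ D.obj i, freeSheafEquiv d' _ ((freeMap J g ≫ r) ≫ D.map f) =
          (D.map f).hom.app (op d') ((D.obj i).obj.map g.op (freeSheafEquiv d _ r)) := fun r => by
        rw [freeSheafEquiv_comp, freeSheafEquiv_freeMap]
      simp only [← Category.assoc]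
      rw [Category.assoc _ t a, Category.assoc _ t b, e, e]
      exact hf
    show freeMap J g ≫ t ≫ u = freeMap J g ≫ t ≫ v
    rw [← Category.assoc, ← Category.assoc, ← equalizer.lift_ι _ hw, Category.assoc, Category.assoc, e ⟨k, f⟩]
  obtain ⟨s, hs⟩ := qc_finite hX hje
  obtain ⟨k, f, hf⟩ := exists_above s
  refine ⟨k, f, hs _ _ _ (fun p => ?_)⟩
  obtain ⟨l, hl⟩ := hf p.1 p.2
  show equalizer.ι _ _ ≫ a ≫ D.map f = equalizer.ι _ _ ≫ b ≫ D.map f
  rw [← hl, D.map_comp]
  simpa only [Category.assoc] using congrArg (· ≫ D.map l) (equalizer.condition (a ≫ D.map p.1.2) (b ≫ D.map p.1.2))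

include hc in
lemma qc_eventually_eq' (hX : IsQC X) {i j : I} {a : X ⟶ D.obj i} {b : X ⟶ D.obj j}
    (h : a ≫ c.ι.app i = b ≫ c.ι.app j) : ∃ (k : I) (f : i ⟶ k) (g : j ⟶ k), a ≫ D.map f = b ≫ D.map g := by
  obtain ⟨k, f, hf⟩ := qc_eventually_eq hc hX (i := IsFiltered.max i j)
    (a := a ≫ D.map (IsFiltered.leftToMax i j)) (b := b ≫ D.map (IsFiltered.rightToMax i j))
    (by rw [Category.assoc, Category.assoc, c.w, c.w, h])
  exact ⟨k, IsFiltered.leftToMax i j ≫ f, IsFiltered.rightToMax i j ≫ f, by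
    simpa only [D.map_comp, Category.assoc] using hf⟩

/-- finitely many objects, one bound -/
lemma exists_sup {κ : Type w} [Finite κ] (i : κ → I) : ∃ j : I, ∀ k, Nonempty (i k ⟶ j) := by
  classical
  haveI := Fintype.ofFinite κ
  obtain ⟨j, hj⟩ := IsFiltered.sup_objs_exists (Finset.univ.image i)
  exact ⟨j, fun k => hj (Finset.mem_image_of_mem i (Finset.mem_univ k))⟩

include hc in
lemma coherent_exists_factor (hE : HasQCGenerators J) (hX : IsCoherent X) (φ : X ⟶ c.pt) :
    ∃ (i : I) (ψ : X ⟶ D.obj i), ψ ≫ c.ι.app i = φ := by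
  classical
  have hje : JE (fun i : I => pullback.fst φ (c.ι.app i)) :=
    JE.pullback_fst (F := fun i : I => D.obj i) (fun Z a b e => hc.hom_ext e) φ
  choose κ G π hG hπ using fun i => hE (pullback φ (c.ι.app i))
  have hcov := hje.trans (fun i => (epi_desc_iff (π i)).1 (hπ i))
  obtain ⟨s, hs⟩ := qc_finite hX.1 hcov
  obtain ⟨j₀, hj₀⟩ := exists_sup (fun p : s => p.1.1)
  let ψ : ∀ p : s, G p.1.1 p.1.2 ⟶ D.obj j₀ := fun p =>
    π p.1.1 p.1.2 ≫ pullback.snd φ (c.ι.app p.1.1) ≫ D.map (hj₀ p).some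
  let f : ∀ p : s, G p.1.1 p.1.2 ⟶ X := fun p => π p.1.1 p.1.2 ≫ pullback.fst φ (c.ι.app p.1.1)
  have hψ : ∀ p, ψ p ≫ c.ι.app j₀ = f p ≫ φ := fun p => by
    simp only [ψ, f, Category.assoc, c.w, pullback.condition]
  have hpq : ∀ x : s × s, ∃ k : Σ k, (j₀ ⟶ k),
      pullback.fst (f x.1) (f x.2) ≫ ψ x.1 ≫ D.map k.2 = pullback.snd (f x.1) (f x.2) ≫ ψ x.2 ≫ D.map k.2 := by
    rintro ⟨p, q⟩
    obtain ⟨k, g, hg⟩ := qc_eventually_eq hc (hX.2 _ _ (f p) (f q) (hG _ _) (hG _ _))
      (a := pullback.fst _ _ ≫ ψ p) (b := pullback.snd _ _ ≫ ψ q)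
      (by
        refine (Category.assoc _ _ _).trans (Eq.trans ?_ (Category.assoc _ _ _).symm)
        rw [hψ p, hψ q, pullback.condition_assoc])
    exact ⟨⟨k, g⟩, by simpa only [Category.assoc] using hg⟩
  choose K hK using hpq
  obtain ⟨j, g, hg⟩ := exists_above (Finset.univ.image K)
  have hs' : Cov f := JE.cov hs
  obtain ⟨θ, hθ⟩ := (sheafAxioms J).exists_desc hs' (fun p => ψ p ≫ D.map g) (fun p q i a b hab => by
    obtain ⟨l, hl⟩ := hg _ (Finset.mem_image_of_mem K (Finset.mem_univ (p, q)))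
    have h1 := congrArg (pullback.lift a b hab ≫ ·) (congrArg (· ≫ D.map l) (hK (p, q)))
    simp only [Category.assoc, ← D.map_comp, hl, pullback.lift_fst_assoc, pullback.lift_snd_assoc] at h1
    exact h1)
  refine ⟨j, θ, hs'.hom_ext (fun p => ?_)⟩
  rw [reassoc_of% (hθ p), c.w]
  exact hψ p

omit [IsFiltered I] in
variable (X) in
lemma post_ι (i : I) (a : X ⟶ D.obj i) :
    colimit.post D (coyoneda.obj (op X)) (colimit.ι (D ⋙ coyoneda.obj (op X)) i a) = a ≫ colimit.ι D i :=
  ConcreteCategory.congr_hom (colimit.ι_post D (coyoneda.obj (op X)) i) a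

lemma qc_post_injective (hX : IsQC X) : Function.Injective (colimit.post D (coyoneda.obj (op X))) := by
  intro x y h
  obtain ⟨i, a, rfl⟩ := Types.jointly_surjective' x
  obtain ⟨j, b, rfl⟩ := Types.jointly_surjective' y
  rw [post_ι, post_ι] at h
  obtain ⟨k, f, g, e⟩ := qc_eventually_eq' (colimit.isColimit D) hX h
  exact (Types.FilteredColimit.colimit_eq_iff (D ⋙ coyoneda.obj (op X))).2 ⟨k, f, g, e⟩

lemma coherent_post_bijective (hE : HasQCGenerators J) (hX : IsCoherent X) :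
    Function.Bijective (colimit.post D (coyoneda.obj (op X))) := by
  refine ⟨qc_post_injective hX.1, fun φ => ?_⟩
  obtain ⟨i, ψ, hψ⟩ := coherent_exists_factor (colimit.isColimit D) hE hX φ
  exact ⟨colimit.ι (D ⋙ coyoneda.obj (op X)) i ψ, (post_ι X i ψ).trans hψ⟩

section Test

variable {ι : Type u} {F : ι → Sh J} (π : ∀ i, F i ⟶ X)

/-- the map from the finite part of a family -/
noncomputable def sumMap (s : Finset ι) : (∐ fun i : s => F i.1) ⟶ X := Sigma.desc (fun i : s => π i.1)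

/-- inclusion of finite parts -/
noncomputable def sumIncl {s t : Finset ι} (h : s ≤ t) : (∐ fun i : s => F i.1) ⟶ (∐ fun i : t => F i.1) :=
  Sigma.desc (fun i : s => Sigma.ι (fun i : t => F i.1) ⟨i.1, h i.2⟩)

/-- cokernel pairs of the finite parts of a family -/
noncomputable def testDiagram : Finset ι ⥤ Sh J where
  obj s := pushout (sumMap π s) (sumMap π s)
  map {s t} h := pushout.map _ _ _ _ (𝟙 X) (𝟙 X) (sumIncl (leOfHom h))
    (Sigma.hom_ext _ _ (fun i => by simp [sumMap, sumIncl])) (Sigma.hom_ext _ _ (fun i => by simp [sumMap, sumIncl]))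
  map_id s := by ext <;> simp
  map_comp f g := by ext <;> simp

lemma isQC_of_post_injective (h : ∀ (I : Type u) [SmallCategory I] [IsFiltered I] (D : I ⥤ Sh J),
    Function.Injective (colimit.post D (coyoneda.obj (op X)))) : IsQC X := by
  classical
  refine isQC_of_je (fun ι F π hπ => ?_)
  let D := testDiagram π
  have key : pushout.inl (sumMap π ∅) (sumMap π ∅) ≫ colimit.ι D ∅ =
      pushout.inr (sumMap π ∅) (sumMap π ∅) ≫ colimit.ι D ∅ := by
    refine hπ _ _ _ (fun i => ?_)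
    have hle : (∅ : Finset ι) ≤ {i} := Finset.empty_subset _
    have e1 : pushout.inl (sumMap π ∅) (sumMap π ∅) ≫ D.map (homOfLE hle) =
        pushout.inl (sumMap π {i}) (sumMap π {i}) := by simp [D, testDiagram]
    have e2 : pushout.inr (sumMap π ∅) (sumMap π ∅) ≫ D.map (homOfLE hle) =
        pushout.inr (sumMap π {i}) (sumMap π {i}) := by simp [D, testDiagram]
    have e3 : π i = Sigma.ι (fun j : ({i} : Finset ι) => F j.1) ⟨i, Finset.mem_singleton_self i⟩ ≫ sumMap π {i} := by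
      simp [sumMap]
    rw [← colimit.w D (homOfLE hle), reassoc_of% e1, reassoc_of% e2, e3, Category.assoc, Category.assoc,
      pushout.condition_assoc]
  have h1 := h (Finset ι) D
    (a₁ := colimit.ι (D ⋙ coyoneda.obj (op X)) ∅ (pushout.inl _ _))
    (a₂ := colimit.ι (D ⋙ coyoneda.obj (op X)) ∅ (pushout.inr _ _)) (by rw [post_ι, post_ι]; exact key)
  obtain ⟨s, f, g, hs⟩ := (Types.FilteredColimit.colimit_eq_iff (D ⋙ coyoneda.obj (op X))).1 h1
  have hs' : pushout.inl (sumMap π s) (sumMap π s) = pushout.inr (sumMap π s) (sumMap π s) := by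
    have hs2 : pushout.inl (sumMap π ∅) (sumMap π ∅) ≫ D.map f = pushout.inr (sumMap π ∅) (sumMap π ∅) ≫ D.map g := hs
    simpa [D, testDiagram] using hs2
  refine ⟨s, fun Z a b e => ?_⟩
  have hw : sumMap π s ≫ a = sumMap π s ≫ b := Sigma.hom_ext _ _ (fun i => by
    simpa [sumMap] using e i)
  have := congrArg (· ≫ pushout.desc a b hw) hs'
  simpa using this

end Test

end Groth.Agent.QCTopos
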