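import Groth.Agent.CohAcyc.Free
import Mathlib.CategoryTheory.Sites.PreservesSheafification
import Mathlib.CategoryTheory.Limits.Preserves.FunctorCategory
import Mathlib.CategoryTheory.Limits.Preserves.Filtered
import Mathlib.Algebra.Category.Grp.FilteredColimits

/-! # Forgetting to sheaves of sets commutes with filtered colimits -/

set_option autoImplicit false
set_option linter.all false
set_option backward.isDefEq.respectTransparency false
set_option backward.defeqAttrib.useBackward true

universe u

open CategoryTheory CategoryTheory.Limits

namespace Groth.Agent.QCTopos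

open Groth.Agent.CohAcyc

variable {C : Type u} [SmallCategory C] (J : GrothendieckTopology C) (Λ : Type u) [SmallCategory Λ] [IsFiltered Λ]

theorem forget_preservesFilteredColimits :
    PreservesColimitsOfShape Λ (sheafCompose J (CategoryTheory.forget AddCommGrpCat.{u})) := by
  let U := sheafCompose J (CategoryTheory.forget AddCommGrpCat.{u})
  let W := (Functor.whiskeringRight Cᵒᵖ AddCommGrpCat.{u} (Type u)).obj (CategoryTheory.forget AddCommGrpCat.{u})
  haveI : PreservesColimitsOfShape Λ (CategoryTheory.forget AddCommGrpCat.{u}) := inferInstance
  haveI : PreservesColimitsOfShape Λ W := inferInstance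
  haveI := (sheafificationAdjunction J (Type u)).leftAdjoint_preservesColimits.{u, u}
  haveI h₁ := (sheafificationAdjunction J AddCommGrpCat.{u}).leftAdjoint_preservesColimits.{u, u}
  let e := sheafComposeNatIso J (CategoryTheory.forget AddCommGrpCat.{u})
    (sheafificationAdjunction J AddCommGrpCat.{u}) (sheafificationAdjunction J (Type u))
  haveI : PreservesColimitsOfShape Λ (presheafToSheaf J AddCommGrpCat.{u} ⋙ U) :=
    preservesColimitsOfShape_of_natIso e
  refine ⟨fun {D} => ?_⟩
  let P := D ⋙ sheafToPresheaf J AddCommGrpCat.{u}
  have hc : IsColimit ((presheafToSheaf J AddCommGrpCat.{u}).mapCocone (colimit.cocone P)) :=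
    isColimitOfPreserves _ (colimit.isColimit P)
  haveI : PreservesColimit (P ⋙ presheafToSheaf J AddCommGrpCat.{u}) U :=
    preservesColimit_of_preserves_colimit_cocone hc
      (isColimitOfPreserves (presheafToSheaf J AddCommGrpCat.{u} ⋙ U) (colimit.isColimit P))
  exact preservesColimit_of_iso_diagram U
    (Functor.associator _ _ _ ≪≫ Functor.isoWhiskerLeft D
      (asIso (sheafificationAdjunction J AddCommGrpCat.{u}).counit) ≪≫ D.rightUnitor)

end Groth.Agent.QCTopos
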