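import Groth.Agent.QCTopos.Nerve
import Groth.Agent.QCTopos.Filtered
import Groth.Agent.QCTopos.Criterion
import Groth.Agent.QCTopos.ForgetColim
import Groth.Agent.Resolve.Resolution
import Groth.Agent.CohAcyc.Free
import Mathlib.CategoryTheory.Preadditive.Biproducts
import Mathlib.CategoryTheory.Abelian.GrothendieckAxioms.Sheaf
import Mathlib.Algebra.Homology.DerivedCategory.Ext.ExtClass

/-! # Cohomology on coherent objects commutes with filtered colimits -/

set_option autoImplicit false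
set_option linter.all false
set_option backward.isDefEq.respectTransparency false
set_option backward.defeqAttrib.useBackward true

universe w w' u

open CategoryTheory CategoryTheory.Limits CategoryTheory.Abelian Opposite AlgebraicTopology
open scoped Simplicial

namespace Groth.Agent.QCTopos

open ToposFin Giraud Groth.Agent.CohAcyc

variable {C : Type u} [SmallCategory C] {J : GrothendieckTopology C} {Λ : Type u} [SmallCategory Λ] [IsFiltered Λ]

/-- maps from a free sheaf on a coherent object into a filtered colimit -/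
lemma zHom_factor (hE : HasQCGenerators J) {L : Sh J} (hL : IsCoherent L) (D : Λ ⥤ Ab J)
    (φ : (zF J).obj L ⟶ colimit D) : ∃ (i : Λ) (ψ : (zF J).obj L ⟶ D.obj i), ψ ≫ colimit.ι D i = φ := by
  let U := sheafCompose J (CategoryTheory.forget AddCommGrpCat.{u})
  haveI := forget_preservesFilteredColimits J Λ
  obtain ⟨i, ψ, hψ⟩ := coherent_exists_factor (isColimitOfPreserves U (colimit.isColimit D)) hE hL
    ((zAdj J).homEquiv _ _ φ)
  refine ⟨i, ((zAdj J).homEquiv _ _).symm ψ, ?_⟩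
  apply ((zAdj J).homEquiv _ _).injective
  rw [Adjunction.homEquiv_naturality_right, Equiv.apply_symm_apply]
  exact hψ

lemma zHom_eq {L : Sh J} (hL : IsQC L) (D : Λ ⥤ Ab J) {i : Λ}
    {a b : (zF J).obj L ⟶ D.obj i} (h : a ≫ colimit.ι D i = b ≫ colimit.ι D i) :
    ∃ (k : Λ) (f : i ⟶ k), a ≫ D.map f = b ≫ D.map f := by
  let U := sheafCompose J (CategoryTheory.forget AddCommGrpCat.{u})
  haveI := forget_preservesFilteredColimits J Λ
  obtain ⟨k, f, hf⟩ := qc_eventually_eq (isColimitOfPreserves U (colimit.isColimit D)) hL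
    (a := (zAdj J).homEquiv _ _ a) (b := (zAdj J).homEquiv _ _ b) (by
      have := congrArg ((zAdj J).homEquiv _ _) h
      rw [Adjunction.homEquiv_naturality_right, Adjunction.homEquiv_naturality_right] at this
      exact this)
  refine ⟨k, f, ((zAdj J).homEquiv _ _).injective ?_⟩
  rw [Adjunction.homEquiv_naturality_right, Adjunction.homEquiv_naturality_right]
  exact hf

/-- `Hom` from a resolution by coherent terms into a filtered colimit of injectives stays exact -/
lemma homExact_colimit (hE : HasQCGenerators J) {P : ChainComplex (Ab J) ℕ} {Z : Ab J} {ε : P.X 0 ⟶ Z}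
    (hP : IsRes P ε) (hterm : ∀ n, ∃ L : Sh J, IsCoherent L ∧ Nonempty (P.X n ≅ (zF J).obj L))
    (D : Λ ⥤ Ab J) (hD : ∀ i, Injective (D.obj i)) : HomExact P (colimit D) := by
  intro n φ hφ
  obtain ⟨L, hL, ⟨e⟩⟩ := hterm (n + 1)
  obtain ⟨i, ψ', hψ'⟩ := zHom_factor hE hL D (e.inv ≫ φ)
  obtain ⟨L', hL', ⟨e'⟩⟩ := hterm (n + 2)
  obtain ⟨k, f, hf⟩ := zHom_eq hL'.1 D (a := e'.inv ≫ P.d (n + 2) (n + 1) ≫ e.hom ≫ ψ') (b := 0) (by
    rw [zero_comp, Category.assoc, Category.assoc, Category.assoc, hψ', Iso.hom_inv_id_assoc, hφ, comp_zero])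
  haveI := hD k
  obtain ⟨ψ, hψ⟩ := homExact_of_injective hP (D.obj k) n (e.hom ≫ ψ' ≫ D.map f) (by
    rw [zero_comp, Category.assoc, Category.assoc, Category.assoc, Preadditive.IsIso.comp_left_eq_zero] at hf
    exact hf)
  refine ⟨ψ ≫ colimit.ι D k, ?_⟩
  rw [reassoc_of% hψ, colimit.w, hψ', Iso.hom_inv_id_assoc]

section Members

variable {S : Set (Sh J)} (hqc : ∀ K ∈ S, IsQC K) (hgen : IsGenerating S) (hpb : ClosedUnderPullbacks S)

lemma subsingleton_ext_zF_sum {L : Sh J} (hL : IsSum S L) {F : Ab J} {n : ℕ}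
    (h : ∀ K : S, Subsingleton (Ext ((zF J).obj K.1) F n)) : Subsingleton (Ext ((zF J).obj L) F n) := by
  obtain ⟨κ, hκ, G, inj, hG, ⟨hc⟩⟩ := hL
  haveI := Fintype.ofFinite κ
  haveI := (zAdj J).leftAdjoint_preservesColimits.{u, u}
  let t : Cofan (fun k => (zF J).obj (G k)) := Cofan.mk ((zF J).obj L) (fun k => (zF J).map (inj k))
  have ht : IsColimit t := (isColimitMapCoconeCofanMkEquiv (zF J) G inj) (isColimitOfPreserves (zF J) hc)
  haveI : ∀ k, Subsingleton (Ext ((zF J).obj (G k)) F n) := fun k => h ⟨G k, hG k⟩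
  exact (Ext.biproductAddEquiv (biconeIsBilimitOfColimitCoconeOfIsColimit ht) F n).toEquiv.subsingleton

/-- nerves of coverings by finite sums of members -/
def SumCech (k : S) (P : ChainComplex (Ab J) ℕ) (ε : P.X 0 ⟶ (zF J).obj k.1) : Prop :=
  ∃ (k' : Sh J) (f : k' ⟶ k.1) (_ : Epi f) (_ : IsSum S k') (e : P = zCech f),
    ε = eqToHom (by rw [e]) ≫ zCechε f

include hqc hgen hpb in
theorem acyclic_colimit_injective (D : Λ ⥤ Ab J) (hD : ∀ i, Injective (D.obj i)) {K : Sh J} (hK : K ∈ S) (q : ℕ) :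
    Subsingleton (Ext ((zF J).obj K) (colimit D) (q + 1)) := by
  refine subsingleton_of_homExact' (fun k : S => (zF J).obj k.1) SumCech ?_ ?_ ?_ q (colimit D) ?_ ⟨K, hK⟩
  · intro I Q g _ k s
    obtain ⟨k', f, hf, t, ht⟩ := exists_epi_lift g s
    haveI := hf
    obtain ⟨L, hL, l, hl⟩ := exists_sum_refine hgen (hqc _ k.2) f
    refine ⟨zCech (l ≫ f), zCechε (l ≫ f), ⟨L, l ≫ f, hl, hL, rfl, (Category.id_comp _).symm⟩,
      (zF J).map (WidePullback.π (fun _ : Fin 1 => l ≫ f) 0) ≫ (zF J).map l ≫ t, ?_⟩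
    have ht' : ((zF J).map l ≫ t) ≫ g = (zF J).map (l ≫ f) ≫ s := by
      rw [Category.assoc, ht, Functor.map_comp, Category.assoc]
    refine (Category.assoc _ _ _).trans ((congrArg ((zF J).map (WidePullback.π (fun _ : Fin 1 => l ≫ f) 0) ≫ ·)
      ht').trans ((Category.assoc _ _ _).symm.trans (congrArg (· ≫ s) ?_)))
    exact ((zF J).map_comp _ _).symm.trans (congrArg (zF J).map (WidePullback.π_arrow _ 0))
  · rintro k P ε ⟨k', f, hf, -, rfl, rfl⟩
    haveI := hf
    simpa using isRes_zCech f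
  · rintro k P ε ⟨k', f, hf, hk', rfl, -⟩ n F h
    exact subsingleton_ext_zF_sum (L := widePullback k.1 (fun _ : Fin (n + 1) => k') (fun _ => f))
      (isSum_widePullback hpb f hk' k.2 n) h
  · rintro k P ε ⟨k', f, hf, hk', rfl, -⟩
    haveI := hf
    exact homExact_colimit (hasQC_of_isGenerating hgen hqc) (isRes_zCech f)
      (fun n => ⟨_, isCoherent_of_isSum hgen hqc hpb (isSum_widePullback hpb f hk' k.2 n), ⟨Iso.refl _⟩⟩) D hD

end Members

lemma exists_injective_embedding :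
    ∃ (N : Ab J ⥤ Ab J) (j : 𝟭 (Ab J) ⟶ N), ∀ F, Mono (j.app F) ∧ Injective (N.obj F) := by
  obtain ⟨N, j, h⟩ := Groth.Agent.Resolve.exists_functorial_injective (A := Ab J)
  refine ⟨CochainComplex.singleFunctor (Ab J) 0 ⋙ N ⋙ HomologicalComplex.eval _ _ 0,
    { app := fun F => (HomologicalComplex.singleObjXSelf (ComplexShape.up ℤ) 0 F).inv ≫
        (j.app ((CochainComplex.singleFunctor (Ab J) 0).obj F)).f 0
      naturality := fun F G g => ?_ }, fun F => ⟨?_, ?_⟩⟩
  · have := congrArg (fun m => HomologicalComplex.Hom.f m 0) (j.naturality ((CochainComplex.singleFunctor (Ab J) 0).map g))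
    simp only [Functor.id_map, HomologicalComplex.comp_f] at this
    show g ≫ _ ≫ _ = (_ ≫ _) ≫ (N.map _).f 0
    rw [Category.assoc]
    refine Eq.trans ?_ (congrArg (_ ≫ ·) this)
    rw [← Category.assoc, ← Category.assoc]
    refine congrArg (· ≫ _) ?_
    simp [CochainComplex.singleFunctor, CochainComplex.singleFunctors, HomologicalComplex.single_map_f_self]
  · haveI := (h ((CochainComplex.singleFunctor (Ab J) 0).obj F)).1
    haveI : Mono ((j.app ((CochainComplex.singleFunctor (Ab J) 0).obj F)).f 0) :=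
      inferInstanceAs (Mono ((HomologicalComplex.eval _ _ 0).map (j.app _)))
    exact mono_comp (HomologicalComplex.singleObjXSelf (ComplexShape.up ℤ) 0 F).inv _
  · exact (h ((CochainComplex.singleFunctor (Ab J) 0).obj F)).2.2 0

lemma ext_sub_comp {X A B : Ab J} {n : ℕ} (x y : Ext X A n) (f : A ⟶ B) :
    (x - y).comp (Ext.mk₀ f) (add_zero n) = x.comp (Ext.mk₀ f) (add_zero n) - y.comp (Ext.mk₀ f) (add_zero n) :=
  ((Ext.mk₀ f).postcomp X (add_zero n)).map_sub x y

/-- the comparison statement in degree `q` -/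
def Commutes (X : Ab J) (q : ℕ) (D : Λ ⥤ Ab J) : Prop :=
  (∀ x : Ext X (colimit D) q, ∃ (i : Λ) (y : Ext X (D.obj i) q), y.comp (Ext.mk₀ (colimit.ι D i)) (add_zero q) = x) ∧
  (∀ (i : Λ) (y : Ext X (D.obj i) q), y.comp (Ext.mk₀ (colimit.ι D i)) (add_zero q) = 0 →
    ∃ (k : Λ) (f : i ⟶ k), y.comp (Ext.mk₀ (D.map f)) (add_zero q) = 0)

section Members

variable {S : Set (Sh J)} (hqc : ∀ K ∈ S, IsQC K) (hgen : IsGenerating S) (hpb : ClosedUnderPullbacks S)

include hqc hgen hpb in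
theorem commutes_member {K : Sh J} (hK : K ∈ S) (q : ℕ) : ∀ D : Λ ⥤ Ab J, Commutes ((zF J).obj K) q D := by
  induction q with
  | zero =>
    intro D
    refine ⟨fun x => ?_, fun i y hy => ?_⟩
    · obtain ⟨φ, rfl⟩ := Ext.addEquiv₀.symm.surjective x
      obtain ⟨i, ψ, rfl⟩ := zHom_factor (hasQC_of_isGenerating hgen hqc) (coherent_member hgen hqc hpb hK) D φ
      exact ⟨i, Ext.mk₀ ψ, Ext.mk₀_comp_mk₀ _ _⟩
    · obtain ⟨a, rfl⟩ := Ext.addEquiv₀.symm.surjective y
      have hy' : Ext.mk₀ (a ≫ colimit.ι D i) = Ext.mk₀ 0 := by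
        rw [Ext.mk₀_zero, ← Ext.mk₀_comp_mk₀]; exact hy
      obtain ⟨k, f, hf⟩ := zHom_eq (hqc K hK) D (a := a) (b := 0) (by
        rw [zero_comp]; exact Ext.addEquiv₀.symm.injective hy')
      refine ⟨k, f, (Ext.mk₀_comp_mk₀ _ _).trans ?_⟩
      rw [hf, zero_comp, Ext.mk₀_zero]
  | succ q ih =>
    intro D
    obtain ⟨N, j, hj⟩ := exists_injective_embedding (J := J)
    let ι₀ : D ⟶ D ⋙ N := D.rightUnitor.inv ≫ Functor.whiskerLeft D j
    let S₀ : ShortComplex (Λ ⥤ Ab J) := ShortComplex.mk ι₀ (cokernel.π ι₀) (cokernel.condition _)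
    haveI : ∀ i, Mono (ι₀.app i) := fun i => by
      haveI := (hj (D.obj i)).1
      show Mono (𝟙 _ ≫ j.app (D.obj i))
      infer_instance
    haveI : Mono ι₀ := NatTrans.mono_of_mono_app ι₀
    have hS₀ : S₀.ShortExact := { exact := ShortComplex.exact_cokernel _ }
    have hSi : ∀ i, (S₀.map ((evaluation Λ (Ab J)).obj i)).ShortExact := fun i => hS₀.map_of_exact _
    have hSc : (S₀.map (colim : (Λ ⥤ Ab J) ⥤ Ab J)).ShortExact := hS₀.map_of_exact _
    let nat : ∀ i, (evaluation Λ (Ab J)).obj i ⟶ (colim : (Λ ⥤ Ab J) ⥤ Ab J) := fun i =>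
      { app := fun F => colimit.ι F i
        naturality := fun F G α => (colimit.ι_map α i).symm }
    let trans : ∀ {i k : Λ}, (i ⟶ k) → ((evaluation Λ (Ab J)).obj i ⟶ (evaluation Λ (Ab J)).obj k) :=
      fun f => (evaluation Λ (Ab J)).map f
    have hinj : ∀ i, Subsingleton (Ext ((zF J).obj K) ((D ⋙ N).obj i) (q + 1)) := fun i => by
      haveI : Injective ((D ⋙ N).obj i) := (hj (D.obj i)).2
      exact Ext.subsingleton_of_injective _ _ q
    have hcinj : Subsingleton (Ext ((zF J).obj K) (colimit (D ⋙ N)) (q + 1)) :=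
      acyclic_colimit_injective hqc hgen hpb (D ⋙ N) (fun i => (hj (D.obj i)).2) hK q
    have natδ : ∀ (i : Λ) (s : Ext ((zF J).obj K) (S₀.X₃.obj i) q),
        (s.comp (hSi i).extClass rfl).comp (Ext.mk₀ (colimit.ι D i)) (add_zero (q + 1)) =
          (s.comp (Ext.mk₀ (colimit.ι S₀.X₃ i)) (add_zero q)).comp hSc.extClass rfl := fun i s => by
      rw [Ext.comp_assoc_of_third_deg_zero, Ext.comp_assoc_of_second_deg_zero]
      exact congrArg (fun z => s.comp z rfl) (ShortComplex.ShortExact.extClass_naturality (hSi i) hSc (S₀.mapNatTrans (nat i)))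
    have natδ' : ∀ {i k : Λ} (f : i ⟶ k) (s : Ext ((zF J).obj K) (S₀.X₃.obj i) q),
        (s.comp (hSi i).extClass rfl).comp (Ext.mk₀ (D.map f)) (add_zero (q + 1)) =
          (s.comp (Ext.mk₀ (S₀.X₃.map f)) (add_zero q)).comp (hSi k).extClass rfl := fun {i k} f s => by
      rw [Ext.comp_assoc_of_third_deg_zero, Ext.comp_assoc_of_second_deg_zero]
      exact congrArg (fun z => s.comp z rfl) (ShortComplex.ShortExact.extClass_naturality (hSi i) (hSi k) (S₀.mapNatTrans (trans f)))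
    refine ⟨fun x => ?_, fun i y hy => ?_⟩
    · obtain ⟨s, hs⟩ := Ext.covariant_sequence_exact₁ _ hSc x (@Subsingleton.elim _ hcinj _ _) rfl
      obtain ⟨i, s', hs'⟩ := (ih S₀.X₃).1 s
      refine ⟨i, s'.comp (hSi i).extClass rfl, ?_⟩
      rw [natδ, hs']
      exact hs
    · obtain ⟨s, hs⟩ := Ext.covariant_sequence_exact₁ _ (hSi i) y (@Subsingleton.elim _ (hinj i) _ _) rfl
      rw [← hs] at hy
      obtain ⟨t, ht⟩ := Ext.covariant_sequence_exact₃ _ hSc _ rfl ((natδ i s).symm.trans hy)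
      obtain ⟨j', t', ht'⟩ := (ih (D ⋙ N)).1 t
      let m := IsFiltered.max i j'
      let t'' : Ext ((zF J).obj K) ((D ⋙ N).obj m) q :=
        t'.comp (Ext.mk₀ ((D ⋙ N).map (IsFiltered.rightToMax i j'))) (add_zero q)
      let z : Ext ((zF J).obj K) (S₀.X₃.obj m) q := s.comp (Ext.mk₀ (S₀.X₃.map (IsFiltered.leftToMax i j'))) (add_zero q) -
        t''.comp (Ext.mk₀ (S₀.g.app m)) (add_zero q)
      have hz : z.comp (Ext.mk₀ (colimit.ι S₀.X₃ m)) (add_zero q) = 0 := by
        have e2 : t''.comp (Ext.mk₀ (S₀.g.app m ≫ colimit.ι S₀.X₃ m)) (add_zero q) =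
            t.comp (Ext.mk₀ (colimMap S₀.g)) (add_zero q) := by
          rw [← ht', ← ι_colimMap, Ext.comp_assoc_of_second_deg_zero, Ext.comp_assoc_of_second_deg_zero,
            Ext.mk₀_comp_mk₀, Ext.mk₀_comp_mk₀, ← Category.assoc]
          exact congrArg (fun u => t'.comp (Ext.mk₀ (u ≫ colimMap S₀.g)) (add_zero q)) (colimit.w (D ⋙ N) _)
        rw [ext_sub_comp, Ext.comp_assoc_of_second_deg_zero, Ext.comp_assoc_of_second_deg_zero,
          Ext.mk₀_comp_mk₀, Ext.mk₀_comp_mk₀, colimit.w, e2, sub_eq_zero]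
        exact ht.symm
      obtain ⟨k, g, hg⟩ := (ih S₀.X₃).2 m z hz
      refine ⟨k, IsFiltered.leftToMax i j' ≫ g, ?_⟩
      rw [← hs, natδ']
      have e3 : s.comp (Ext.mk₀ (S₀.X₃.map (IsFiltered.leftToMax i j' ≫ g))) (add_zero q) =
          (t''.comp (Ext.mk₀ ((D ⋙ N).map g)) (add_zero q)).comp (Ext.mk₀ (S₀.g.app k)) (add_zero q) := by
        rw [ext_sub_comp, sub_eq_zero] at hg
        rw [Functor.map_comp, ← Ext.mk₀_comp_mk₀, ← Ext.comp_assoc_of_second_deg_zero, hg,
          Ext.comp_assoc_of_second_deg_zero t'', Ext.mk₀_comp_mk₀, Ext.comp_assoc_of_second_deg_zero t'',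
          Ext.mk₀_comp_mk₀]
        exact congrArg (fun u => t''.comp (Ext.mk₀ u) (add_zero q)) (S₀.g.naturality g).symm
      rw [e3, Ext.comp_assoc_of_second_deg_zero]
      refine (congrArg (fun u => (t''.comp (Ext.mk₀ ((D ⋙ N).map g)) (add_zero q)).comp u rfl)
        (hSi k).comp_extClass).trans ?_
      exact Ext.comp_zero _ _ _ _ _

include hqc hgen hpb in
/-- cohomology with respect to a member commutes with filtered colimits -/
theorem preservesColimits_member {K : Sh J} (hK : K ∈ S) (q : ℕ) :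
    PreservesColimitsOfShape Λ ((Abelian.extFunctor.{u} q).obj (op ((zF J).obj K)) : Ab J ⥤ AddCommGrpCat.{u}) := by
  refine ⟨fun {D} => preservesColimit_of_preserves_colimit_cocone (colimit.isColimit D) ?_⟩
  haveI : ReflectsColimitsOfShape Λ (CategoryTheory.forget AddCommGrpCat.{u}) :=
    reflectsColimitsOfShape_of_reflectsIsomorphisms
  apply isColimitOfReflects (CategoryTheory.forget AddCommGrpCat.{u})
  obtain ⟨h1, h2⟩ := commutes_member hqc hgen hpb hK q D
  refine Types.FilteredColimit.isColimitOf' _ _ (fun x => ?_) (fun i x y hxy => ?_)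
  · obtain ⟨i, y, hy⟩ := h1 x
    exact ⟨i, y, hy.symm⟩
  · let x' : Ext ((zF J).obj K) (D.obj i) q := x
    let y' : Ext ((zF J).obj K) (D.obj i) q := y
    have hxy' : x'.comp (Ext.mk₀ (colimit.ι D i)) (add_zero q) = y'.comp (Ext.mk₀ (colimit.ι D i)) (add_zero q) := hxy
    obtain ⟨k, f, hf⟩ := h2 i (x' - y') (by rw [ext_sub_comp, hxy', sub_self])
    rw [ext_sub_comp, sub_eq_zero] at hf
    exact ⟨k, f, hf⟩

end Members

/-- cohomology on a coherent object of an algebraic topos commutes with filtered colimits -/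
theorem preservesColimits_coherent (hE : IsAlgebraic J) {K : Sh J} (hK : IsCoherent K) (q : ℕ) :
    PreservesColimitsOfShape Λ ((Abelian.extFunctor.{u} q).obj (op ((zF J).obj K)) : Ab J ⥤ AddCommGrpCat.{u}) := by
  refine preservesColimits_member (S := {L | IsCoherent L}) (fun L hL => hL.1) ?_ ?_ hK q
  · obtain ⟨S, hqc, hgen, hpb, -⟩ := hE
    intro X
    obtain ⟨ι, F, π, hF, hπ⟩ := hgen X
    exact ⟨ι, F, π, fun i => coherent_member hgen hqc hpb (hF i), hπ⟩
  · intro A B M a b hA hB hM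
    exact ⟨pullback a b, pullback.fst a b, pullback.snd a b, ⟨hM.2 _ _ a b hA.1 hB.1,
      isQS_of_qsHom (qsHom_baseChange (qsHom_of_isQS_of_isAlgebraic hE hA.2 a) (IsPullback.of_hasPullback a b)) hB.2⟩,
      IsPullback.of_hasPullback a b⟩

end Groth.Agent.QCTopos
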