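import Groth.Agent.QCTopos.CohColim
import Groth.Agent.CohAcyc.ModExt
import Groth.Agent.CohAcyc.Basic
import Groth.Prelude.Def_ToposFin2

/-! # Filtered colimits: global cohomology and cohomology with supports -/

set_option autoImplicit false
set_option linter.all false
set_option backward.isDefEq.respectTransparency false
set_option backward.defeqAttrib.useBackward true

universe u

open CategoryTheory CategoryTheory.Limits CategoryTheory.Abelian Opposite

namespace Groth.Agent.QCTopos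

open ToposFin Giraud Groth.Agent.CohAcyc

variable {C : Type u} [SmallCategory C] {J : GrothendieckTopology C} {Λ : Type u} [SmallCategory Λ] [IsFiltered Λ]

lemma coherent_of_iso {X Y : Sh J} (e : X ≅ Y) (h : IsCoherent X) : IsCoherent Y :=
  ⟨isQC_of_iso e h.1, isQS_of_qsHom (qsHom_of_mono e.inv) h.2⟩

noncomputable def ptShIsTerminal : IsTerminal (ptSh J) :=
  IsTerminal.ofUniqueHom (fun F => ⟨{ app := fun U => ↾fun _ => PUnit.unit, naturality := fun _ _ _ => rfl }⟩)
    (fun F m => rfl)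

theorem preservesColimits_functorH (hE : IsAlgebraic J) (hT : IsCoherent (⊤_ (Sh J))) (q : ℕ) :
    PreservesColimitsOfShape Λ (Sheaf.functorH J q : Ab J ⥤ AddCommGrpCat.{u}) := by
  haveI := preservesColimits_coherent (Λ := Λ) hE
    (coherent_of_iso (terminalIsTerminal.uniqueUpToIso (ptShIsTerminal (J := J))) hT) q
  let e : (Abelian.extFunctor.{u} q).obj (op ((zF J).obj (ptSh J))) ≅
      (Sheaf.functorH J q : Ab J ⥤ AddCommGrpCat.{u}) :=
    (Abelian.extFunctor.{u} q).mapIso (constIsoFree J).op ≪≫ NatIso.ofComponents (fun F => Iso.refl _) (fun g => rfl)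
  exact preservesColimitsOfShape_of_natIso e

/-- elementwise form of commutation -/
lemma commutes_of_preserves (X : Ab J) (q : ℕ)
    [PreservesColimitsOfShape Λ ((Abelian.extFunctor.{u} q).obj (op X) : Ab J ⥤ AddCommGrpCat.{u})]
    (D : Λ ⥤ Ab J) : Commutes X q D := by
  let G := (Abelian.extFunctor.{u} q).obj (op X) ⋙ CategoryTheory.forget AddCommGrpCat.{u}
  have hc : IsColimit (G.mapCocone (colimit.cocone D)) := isColimitOfPreserves G (colimit.isColimit D)
  refine ⟨fun x => ?_, fun i y hy => ?_⟩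
  · obtain ⟨i, y, hy⟩ := Types.jointly_surjective _ hc x
    exact ⟨i, y, hy⟩
  · obtain ⟨k, f, hf⟩ := (Types.FilteredColimit.isColimit_eq_iff' hc y (show Ext X (D.obj i) q from 0)).1
      (hy.trans (Ext.zero_comp _ _ _ _ (add_zero q)).symm)
    exact ⟨k, f, hf.trans (Ext.zero_comp _ _ _ _ (add_zero q))⟩

lemma preserves_of_commutes (X : Ab J) (q : ℕ) (h : ∀ D : Λ ⥤ Ab J, Commutes X q D) :
    PreservesColimitsOfShape Λ ((Abelian.extFunctor.{u} q).obj (op X) : Ab J ⥤ AddCommGrpCat.{u}) := by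
  refine ⟨fun {D} => preservesColimit_of_preserves_colimit_cocone (colimit.isColimit D) ?_⟩
  haveI : ReflectsColimitsOfShape Λ (CategoryTheory.forget AddCommGrpCat.{u}) :=
    reflectsColimitsOfShape_of_reflectsIsomorphisms
  apply isColimitOfReflects (CategoryTheory.forget AddCommGrpCat.{u})
  obtain ⟨h1, h2⟩ := h D
  refine Types.FilteredColimit.isColimitOf' _ _ (fun x => ?_) (fun i x y hxy => ?_)
  · obtain ⟨i, y, hy⟩ := h1 x
    exact ⟨i, y, hy.symm⟩
  · let x' : Ext X (D.obj i) q := x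
    let y' : Ext X (D.obj i) q := y
    have hxy' : x'.comp (Ext.mk₀ (colimit.ι D i)) (add_zero q) = y'.comp (Ext.mk₀ (colimit.ι D i)) (add_zero q) := hxy
    obtain ⟨k, f, hf⟩ := h2 i (x' - y') (by rw [ext_sub_comp, hxy', sub_self])
    rw [ext_sub_comp, sub_eq_zero] at hf
    exact ⟨k, f, hf⟩

section Quotient

variable {S : ShortComplex (Ab J)} (hS : S.ShortExact) {D : Λ ⥤ Ab J}
  (h₁ : ∀ q, Commutes S.X₁ q D) (h₂ : ∀ q, Commutes S.X₂ q D)

include hS in
lemma eq_of_g_comp_zero {Y : Ab J} {x : Ext S.X₃ Y 0} (h : (Ext.mk₀ S.g).comp x (zero_add 0) = 0) : x = 0 := by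
  obtain ⟨a, rfl⟩ := Ext.addEquiv₀.symm.surjective x
  haveI := hS.epi_g
  have h' : Ext.mk₀ (S.g ≫ a) = Ext.mk₀ 0 := by rw [Ext.mk₀_zero, ← Ext.mk₀_comp_mk₀]; exact h
  have h'' : S.g ≫ a = S.g ≫ 0 := by rw [comp_zero]; exact Ext.addEquiv₀.symm.injective h'
  show Ext.mk₀ a = 0
  rw [(cancel_epi S.g).1 h'', Ext.mk₀_zero]

include hS h₁ h₂ in
theorem commutes_quotient (q : ℕ) : Commutes S.X₃ q D := by
  refine ⟨fun x => ?_, fun i x hx => ?_⟩
  · obtain ⟨i, y, hy⟩ := (h₂ q).1 ((Ext.mk₀ S.g).comp x (zero_add q))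
    obtain ⟨k, f, hk⟩ := (h₁ q).2 i ((Ext.mk₀ S.f).comp y (zero_add q)) (by
      rw [Ext.comp_assoc_of_third_deg_zero, hy, ← Ext.comp_assoc_of_second_deg_zero, Ext.mk₀_comp_mk₀, S.zero,
        Ext.mk₀_zero, Ext.zero_comp])
    obtain ⟨x', hx'⟩ := Ext.contravariant_sequence_exact₂ hS (D.obj k) (y.comp (Ext.mk₀ (D.map f)) (add_zero q))
      (by rw [← Ext.comp_assoc_of_third_deg_zero]; exact hk)
    have hd : (Ext.mk₀ S.g).comp (x - x'.comp (Ext.mk₀ (colimit.ι D k)) (add_zero q)) (zero_add q) = 0 := by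
      refine (((Ext.mk₀ S.g).precomp (colimit D) (zero_add q)).map_sub x _).trans ?_
      show (Ext.mk₀ S.g).comp x (zero_add q) -
        (Ext.mk₀ S.g).comp (x'.comp (Ext.mk₀ (colimit.ι D k)) (add_zero q)) (zero_add q) = 0
      rw [← Ext.comp_assoc_of_third_deg_zero, hx', Ext.comp_assoc_of_third_deg_zero, Ext.mk₀_comp_mk₀, colimit.w, hy,
        sub_self]
    match q, x, x', hd with
    | 0, x, x', hd => exact ⟨k, x', (sub_eq_zero.1 (eq_of_g_comp_zero hS hd)).symm⟩
    | p + 1, x, x', hd =>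
      obtain ⟨w, hw⟩ := Ext.contravariant_sequence_exact₃ hS _ _ hd (Nat.add_comm 1 p)
      obtain ⟨l, w', hw'⟩ := (h₁ p).1 w
      let m := IsFiltered.max k l
      refine ⟨m, x'.comp (Ext.mk₀ (D.map (IsFiltered.leftToMax k l))) (add_zero _) +
        hS.extClass.comp (w'.comp (Ext.mk₀ (D.map (IsFiltered.rightToMax k l))) (add_zero p)) (Nat.add_comm 1 p), ?_⟩
      rw [Ext.add_comp, Ext.comp_assoc_of_second_deg_zero, Ext.mk₀_comp_mk₀, colimit.w,
        Ext.comp_assoc_of_third_deg_zero, Ext.comp_assoc_of_second_deg_zero, Ext.mk₀_comp_mk₀, colimit.w, hw', hw,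
        add_sub_cancel]
  · obtain ⟨k, f, hk⟩ := (h₂ q).2 i ((Ext.mk₀ S.g).comp x (zero_add q)) (by
      rw [Ext.comp_assoc_of_third_deg_zero, hx, Ext.comp_zero])
    rw [Ext.comp_assoc_of_third_deg_zero] at hk
    match q, x, hx, hk with
    | 0, x, hx, hk => exact ⟨k, f, eq_of_g_comp_zero hS hk⟩
    | p + 1, x, hx, hk =>
      obtain ⟨w, hw⟩ := Ext.contravariant_sequence_exact₃ hS _ _ hk (Nat.add_comm 1 p)
      have h0 : hS.extClass.comp (w.comp (Ext.mk₀ (colimit.ι D k)) (add_zero p)) (Nat.add_comm 1 p) = 0 := by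
        rw [← Ext.comp_assoc_of_third_deg_zero, hw, Ext.comp_assoc_of_second_deg_zero, Ext.mk₀_comp_mk₀, colimit.w, hx]
      obtain ⟨v, hv⟩ := Ext.contravariant_sequence_exact₁ hS _ (w.comp (Ext.mk₀ (colimit.ι D k)) (add_zero p))
        (Nat.add_comm 1 p) h0
      obtain ⟨l, v', hv'⟩ := (h₂ p).1 v
      let m := IsFiltered.max k l
      let w₁ := w.comp (Ext.mk₀ (D.map (IsFiltered.leftToMax k l))) (add_zero p)
      let v₁ := v'.comp (Ext.mk₀ (D.map (IsFiltered.rightToMax k l))) (add_zero p)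
      obtain ⟨n, g, hg⟩ := (h₁ p).2 m (w₁ - (Ext.mk₀ S.f).comp v₁ (zero_add p)) (by
        rw [ext_sub_comp, Ext.comp_assoc_of_second_deg_zero, Ext.mk₀_comp_mk₀, colimit.w,
          Ext.comp_assoc_of_third_deg_zero, Ext.comp_assoc_of_second_deg_zero, Ext.mk₀_comp_mk₀, colimit.w, hv', hv,
          sub_self])
      refine ⟨n, f ≫ IsFiltered.leftToMax k l ≫ g, ?_⟩
      rw [ext_sub_comp, sub_eq_zero] at hg
      have e : x.comp (Ext.mk₀ (D.map (f ≫ IsFiltered.leftToMax k l ≫ g))) (add_zero _) =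
          hS.extClass.comp (w₁.comp (Ext.mk₀ (D.map g)) (add_zero p)) (Nat.add_comm 1 p) := by
        rw [← Ext.comp_assoc_of_third_deg_zero, ← Ext.comp_assoc_of_third_deg_zero, hw,
          Ext.comp_assoc_of_second_deg_zero, Ext.comp_assoc_of_second_deg_zero, Ext.mk₀_comp_mk₀, Ext.mk₀_comp_mk₀,
          ← D.map_comp, ← D.map_comp]
      rw [e, hg, Ext.comp_assoc_of_third_deg_zero (Ext.mk₀ S.f) v₁]
      exact hS.extClass_comp_assoc _

end Quotient

theorem preservesColimits_HZ (hE : IsAlgebraic J) (hT : IsCoherent (⊤_ (Sh J))) (U : Sh J) [Mono (terminal.from U)]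
    (hU : IsCoherent U) (q : ℕ) : PreservesColimitsOfShape Λ (ToposFin.HZFunctor U q) := by
  haveI : Mono ((zF J).map (terminal.from U)) := inferInstance
  let S : ShortComplex (Ab J) := ShortComplex.mk ((zF J).map (terminal.from U)) (cokernel.π _) (cokernel.condition _)
  have hS : S.ShortExact := { exact := ShortComplex.exact_cokernel _ }
  refine preserves_of_commutes S.X₃ q (fun D => commutes_quotient hS (fun p => ?_) (fun p => ?_) q)
  · haveI := preservesColimits_coherent (Λ := Λ) hE hU p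
    exact commutes_of_preserves _ p D
  · haveI := preservesColimits_coherent (Λ := Λ) hE hT p
    exact commutes_of_preserves _ p D

end Groth.Agent.QCTopos
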