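import Groth.Agent.QCTopos.Morph

/-! # Coproducts and finiteness conditions in a sheaf topos -/

set_option autoImplicit false
set_option linter.all false
set_option backward.isDefEq.respectTransparency false
set_option backward.defeqAttrib.useBackward true

universe w w' u

open CategoryTheory CategoryTheory.Limits Opposite

namespace Groth.Agent.QCTopos

open ToposFin Giraud

variable {C : Type u} [SmallCategory C] {J : GrothendieckTopology C}

/-- reindex a coproduct to an index type in the universe of the site -/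
def uliftCofan {κ : Type w} {F : κ → Sh J} (c : Cofan F) :
    Cofan (fun k : ULift.{u} κ => F k.down) := Cofan.mk c.pt (fun k => c.inj k.down)

def uliftCofanIsColimit {κ : Type w} {F : κ → Sh J} {c : Cofan F} (hc : IsColimit c) :
    IsColimit (uliftCofan c) :=
  mkCofanColimit _ (fun t => Cofan.IsColimit.desc hc (fun k => t.inj ⟨k⟩))
    (fun t k => Cofan.IsColimit.fac hc _ k.down)
    (fun t m hm => Cofan.IsColimit.hom_ext hc _ _ (fun k => by
      rw [Cofan.IsColimit.fac]; exact hm ⟨k⟩))

section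

variable {ι : Type u} {F : ι → Sh J} {c : Cofan F} (hc : IsColimit c)

include hc in
lemma cofan_isQC_iff : IsQC c.pt ↔ (∀ i, IsQC (F i)) ∧ {i | ¬ Nonempty (IsInitial (F i))}.Finite := by
  refine ⟨fun h => summand_isQC (je_of_isColimit hc) (inj_mono hc) (fun i j h => inj_disjoint hc h) h, fun h => ?_⟩
  haveI : Finite {i // ¬ Nonempty (IsInitial (F i))} := h.2.to_subtype
  refine isQC_of_finite_cover (κ := {i // ¬ Nonempty (IsInitial (F i))}) (π := fun i => c.inj i.1) ?_ (fun i => h.1 i.1)
  intro Z a b e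
  refine je_of_isColimit hc Z a b (fun i => ?_)
  by_cases hi : Nonempty (IsInitial (F i))
  · exact hi.some.hom_ext _ _
  · exact e ⟨i, hi⟩

include hc in
/-- a quasi-compact object over a coproduct decomposes into finitely many quasi-compact pieces -/
lemma qc_pieces {A : Sh J} (hA : IsQC A) (a : A ⟶ c.pt) :
    (∀ i, IsQC (pullback a (c.inj i))) ∧
      ∃ s : Finset ι, JE (fun i : s => pullback.fst a (c.inj i.1)) := by
  haveI := inj_mono hc
  have hje : JE (fun i => pullback.fst a (c.inj i)) := (je_of_isColimit hc).pullback_fst a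
  refine ⟨(summand_isQC hje (fun i => inferInstance) (fun i j hij => ?_) hA).1, qc_finite hA hje⟩
  exact nonempty_isInitial_of_hom
    (pullback.lift (pullback.fst _ _ ≫ pullback.snd a (c.inj i)) (pullback.snd _ _ ≫ pullback.snd a (c.inj j))
      (by rw [Category.assoc, Category.assoc, ← pullback.condition, ← pullback.condition, pullback.condition_assoc]))
    (inj_disjoint hc hij).some

include hc in
lemma qcHom_inj (i : ι) : IsQCHom (c.inj i) :=
  fun W k hW => isQC_pullback_symm ((qc_pieces hc hW k).1 i)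

include hc in
lemma cofan_isQS_iff : IsQS c.pt ↔ ∀ i, IsQS (F i) := by
  haveI := inj_mono hc
  refine ⟨fun h i => isQS_of_qsHom (qsHom_of_mono (c.inj i)) h, fun h A B a b hA hB => ?_⟩
  obtain ⟨hAi, s, hs⟩ := qc_pieces hc hA a
  refine isQC_pullback_of_cover a b hs (fun i => ?_)
  have h1 := (IsPullback.of_hasPullback (pullback.snd a (c.inj i.1)) (pullback.fst (c.inj i.1) b)).paste_vert
    (IsPullback.of_hasPullback (c.inj i.1) b)
  rw [← pullback.condition] at h1
  exact isQC_of_iso h1.isoPullback (h i.1 _ _ _ _ (hAi i.1) (isQC_pullback_symm ((qc_pieces hc hB b).1 i.1)))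

lemma isPullback_diagonal_mono {X Y Z : Sh J} (u : X ⟶ Y) [Mono u] (f : Y ⟶ Z) :
    IsPullback u (pullback.diagonal (u ≫ f)) (pullback.diagonal f)
      (pullback.map (u ≫ f) (u ≫ f) f f u u (𝟙 Z) (by simp) (by simp)) := by
  refine IsPullback.of_isLimit' ⟨by apply pullback.hom_ext <;> simp⟩ ?_
  refine PullbackCone.IsLimit.mk _ (fun t => t.snd ≫ pullback.fst _ _) (fun t => ?_) (fun t => ?_) (fun t m h1 h2 => ?_)
  · have ha := congrArg (· ≫ pullback.fst f f) t.condition
    simp at ha
    simp [ha]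
  · have ha := congrArg (· ≫ pullback.fst f f) t.condition
    have hb := congrArg (· ≫ pullback.snd f f) t.condition
    simp at ha hb
    apply pullback.hom_ext
    · simp
    · rw [← cancel_mono u]
      simp [← ha, ← hb]
  · simp [← h2]

include hc in
lemma qsHom_cofan_iff {Y : Sh J} (f : c.pt ⟶ Y) : IsQSHom f ↔ ∀ i, IsQSHom (c.inj i ≫ f) := by
  haveI := inj_mono hc
  refine ⟨fun h i => qsHom_comp (qsHom_of_mono _) h, fun h W k hW => ?_⟩
  obtain ⟨h1, s, hs⟩ := qc_pieces hc hW (k ≫ pullback.fst f f)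
  refine isQC_pullback_of_cover_right (pullback.diagonal f) k hs (fun i => ?_)
  let w₁ := pullback.fst (k ≫ pullback.fst f f) (c.inj i.1)
  obtain ⟨h2, t, ht⟩ := qc_pieces hc (h1 i.1) (w₁ ≫ k ≫ pullback.snd f f)
  refine isQC_pullback_of_cover_right (pullback.diagonal f) (w₁ ≫ k) ht (fun j => ?_)
  let w₂ := pullback.fst (w₁ ≫ k ≫ pullback.snd f f) (c.inj j.1)
  let a' := w₂ ≫ pullback.snd (k ≫ pullback.fst f f) (c.inj i.1)
  let b' := pullback.snd (w₁ ≫ k ≫ pullback.snd f f) (c.inj j.1)
  have ea : (w₂ ≫ w₁ ≫ k) ≫ pullback.fst f f = a' ≫ c.inj i.1 := by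
    simp [w₁, a', pullback.condition]
  have eb : (w₂ ≫ w₁ ≫ k) ≫ pullback.snd f f = b' ≫ c.inj j.1 := by
    simp only [Category.assoc]
    exact pullback.condition
  by_cases hij : i.1 = j.1
  · have hb' : ∃ b'' : pullback (w₁ ≫ k ≫ pullback.snd f f) (c.inj j.1) ⟶ F i.1,
        b'' ≫ c.inj i.1 = b' ≫ c.inj j.1 := by
      have key : ∀ {p q : ι} (hpq : p = q), eqToHom (congrArg F hpq) ≫ c.inj q = c.inj p := by
        intro p q hpq; subst hpq; simp
      exact ⟨b' ≫ eqToHom (congrArg F hij.symm), by rw [Category.assoc, key hij.symm]⟩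
    obtain ⟨b'', hb''⟩ := hb'
    have e : w₂ ≫ w₁ ≫ k = pullback.lift a' b'' (by
        rw [reassoc_of% hb'', ← reassoc_of% ea, ← reassoc_of% eb, pullback.condition]) ≫
        pullback.map (c.inj i.1 ≫ f) (c.inj i.1 ≫ f) f f (c.inj i.1) (c.inj i.1) (𝟙 Y) (by simp) (by simp) := by
      apply pullback.hom_ext
      · simpa using ea
      · simpa [hb''] using eb
    refine isQC_of_iso (pullback.congrHom rfl e).symm ?_
    exact isQC_of_iso ((IsPullback.of_hasPullback _ _).paste_horiz (isPullback_diagonal_mono (c.inj i.1) f)).isoPullback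
      (h i.1 _ _ (h2 j.1))
  · have e := pullback.condition (f := pullback.diagonal f) (g := w₂ ≫ w₁ ≫ k)
    have e1 := congrArg (· ≫ pullback.fst f f) e
    have e2 := congrArg (· ≫ pullback.snd f f) e
    simp only [Category.assoc, pullback.diagonal_fst, pullback.diagonal_snd, Category.comp_id] at e1 e2 ea eb
    exact isQC_of_isInitial (nonempty_isInitial_of_hom
      (pullback.lift (pullback.snd (pullback.diagonal f) (w₂ ≫ w₁ ≫ k) ≫ a')
        (pullback.snd (pullback.diagonal f) (w₂ ≫ w₁ ≫ k) ≫ b')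
        (((Category.assoc _ _ _).trans (congrArg (pullback.snd (pullback.diagonal f) (w₂ ≫ w₁ ≫ k) ≫ ·) ea.symm)).trans
          ((e1.symm.trans e2).trans ((congrArg (pullback.snd (pullback.diagonal f) (w₂ ≫ w₁ ≫ k) ≫ ·) eb).trans (Category.assoc _ _ _).symm))))
      (inj_disjoint hc hij).some).some

end

end Groth.Agent.QCTopos
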