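import Mathlib.CategoryTheory.Sites.Point.Conservative
import Mathlib.CategoryTheory.Sites.Point.OfIsCofiltered
import Mathlib.CategoryTheory.Functor.OfSequence
import Mathlib.CategoryTheory.Limits.Shapes.Pullback.IsPullback.Basic
import Mathlib.CategoryTheory.Filtered.Basic
import Mathlib.Order.Filter.Ultrafilter.Basic
import Mathlib.CategoryTheory.Elements
import Mathlib.CategoryTheory.Sites.Equivalence
import Mathlib.CategoryTheory.Sites.LeftExact
import Mathlib.CategoryTheory.Sites.ConcreteSheafification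
import Mathlib.CategoryTheory.Sites.Limits

/-! # Deligne: a site with finite limits and finite covers has enough points -/

set_option autoImplicit false
set_option linter.all false
set_option backward.isDefEq.respectTransparency false
set_option backward.defeqAttrib.useBackward true

universe w v u

open CategoryTheory CategoryTheory.Limits Opposite

namespace Groth.Agent.QCTopos.Deligne

variable {C : Type (max w v)} [Category.{v} C] (J : GrothendieckTopology C) {X : C} (S : Sieve X)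

/-- the sieve does not become covering on `U` -/
def Good {U : C} (h : U ⟶ X) : Prop := S.pullback h ∉ J U

lemma Good.of_comp {U V : C} {h : U ⟶ X} (f : V ⟶ U) (hg : Good J S (f ≫ h)) : Good J S h :=
  fun hc => hg (by rw [Sieve.pullback_comp]; exact J.pullback_stable f hc)

lemma Good.exists_piece [HasPullbacks C] {U Y : C} {h : U ⟶ X} (hg : Good J S h) (t : U ⟶ Y) {n : ℕ}
    {V : Fin n → C} {g : ∀ k, V k ⟶ Y} (hc : Sieve.ofArrows V g ∈ J Y) :
    ∃ k, Good J S (pullback.fst t (g k) ≫ h) := by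
  by_contra hno
  apply hg
  refine J.transitive (J.pullback_stable t hc) _ ?_
  rintro W m hm
  obtain ⟨k, a, ha⟩ := (Sieve.mem_ofArrows_iff _ _ _).1 hm
  have hcov : S.pullback (pullback.fst t (g k) ≫ h) ∈ J _ := by
    by_contra h'
    exact hno ⟨k, h'⟩
  have : (S.pullback h).pullback m = (S.pullback (pullback.fst t (g k) ≫ h)).pullback (pullback.lift m a ha) := by
    rw [← Sieve.pullback_comp, ← Sieve.pullback_comp, pullback.lift_fst_assoc]
  rw [this]
  exact J.pullback_stable _ hcov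

/-- a stage of the construction: a functor with a marked element of good neighbourhoods -/
structure Stage where
  F : C ⥤ Type (max w v)
  cofiltered : IsCofiltered F.Elements
  x : F.obj X
  inv : ∀ (U : C) (u : F.obj U) (h : U ⟶ X), F.map h u = x → Good J S h

attribute [instance] Stage.cofiltered

variable {J S}
variable (hJ : ∀ (U : C) (R : Sieve U), R ∈ J U →
    ∃ (n : ℕ) (V : Fin n → C) (g : ∀ k, V k ⟶ U), (∀ k, R (g k)) ∧ Sieve.ofArrows V g ∈ J U)

namespace Stage

variable (T : Stage J S)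

lemma exists_cone {Y Y' : C} (y : T.F.obj Y) (y' : T.F.obj Y') :
    ∃ (U : C) (u : T.F.obj U) (a : U ⟶ Y) (b : U ⟶ Y'), T.F.map a u = y ∧ T.F.map b u = y' := by
  obtain ⟨⟨U, u⟩, a, b, -⟩ := IsCofilteredOrEmpty.cone_objs (C := T.F.Elements) ⟨Y, y⟩ ⟨Y', y'⟩
  exact ⟨U, u, a.val, b.val, a.property, b.property⟩

lemma exists_eq {U Y : C} (u : T.F.obj U) (a b : U ⟶ Y) (h : T.F.map a u = T.F.map b u) :
    ∃ (U' : C) (u' : T.F.obj U') (m : U' ⟶ U), T.F.map m u' = u ∧ m ≫ a = m ≫ b := by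
  obtain ⟨⟨U', u'⟩, m, hm⟩ := IsCofilteredOrEmpty.cone_maps (C := T.F.Elements) (X := ⟨U, u⟩) (Y := ⟨Y, T.F.map a u⟩)
    (CategoryOfElements.homMk _ _ a rfl) (CategoryOfElements.homMk _ _ b h.symm)
  exact ⟨U', u', m.val, m.property, congrArg Subtype.val hm⟩

lemma exists_eq_finset {U : C} (u : T.F.obj U) {α : Type*} (s : Finset α) (Y : α → C) (a b : ∀ i, U ⟶ Y i)
    (h : ∀ i ∈ s, T.F.map (a i) u = T.F.map (b i) u) :
    ∃ (U' : C) (u' : T.F.obj U') (m : U' ⟶ U), T.F.map m u' = u ∧ ∀ i ∈ s, m ≫ a i = m ≫ b i := by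
  classical
  induction s using Finset.induction with
  | empty => exact ⟨U, u, 𝟙 U, Functor.map_id_apply _ _ _, by simp⟩
  | @insert j s hj ih =>
    obtain ⟨U', u', m, hm, he⟩ := ih (fun i hi => h i (Finset.mem_insert_of_mem hi))
    obtain ⟨U'', u'', m', hm', he'⟩ := T.exists_eq u' (m ≫ a j) (m ≫ b j) (by
      rw [Functor.map_comp_apply, Functor.map_comp_apply, hm]; exact h j (Finset.mem_insert_self _ _))
    refine ⟨U'', u'', m' ≫ m, by rw [Functor.map_comp_apply, hm', hm], fun i hi => ?_⟩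
    rcases Finset.mem_insert.1 hi with rfl | hi
    · rw [Category.assoc, Category.assoc, he']
    · rw [Category.assoc, Category.assoc, he i hi]

/-- requirements: elements with coverings -/
structure Req (T : Stage J S) where
  Y : C
  y : T.F.obj Y
  R : Sieve Y
  mem : R ∈ J Y

/-- finitely many requirements over one neighbourhood -/
structure Node (T : Stage J S) where
  U : C
  u : T.F.obj U
  h : U ⟶ X
  hu : T.F.map h u = T.x
  s : Finset (Req T)
  t : ∀ a ∈ s, U ⟶ a.Y
  ht : ∀ a ha, T.F.map (t a ha) u = a.y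

variable {T}

@[ext]
structure NodeHom (N N' : Node T) where
  m : N.U ⟶ N'.U
  hu : T.F.map m N.u = N'.u
  hh : m ≫ N'.h = N.h
  sub : N'.s ⊆ N.s
  ht : ∀ a ha, m ≫ N'.t a ha = N.t a (sub ha)

instance : Category (Node T) where
  Hom := NodeHom
  id N := ⟨𝟙 _, Functor.map_id_apply _ _ _, Category.id_comp _, Finset.Subset.refl _, fun a ha => Category.id_comp _⟩
  comp {N N' N''} f g := ⟨f.m ≫ g.m, by rw [Functor.map_comp_apply, f.hu, g.hu],
    by rw [Category.assoc, g.hh, f.hh], g.sub.trans f.sub, fun a ha => by rw [Category.assoc, g.ht, f.ht]⟩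
  id_comp f := NodeHom.ext (Category.id_comp _)
  comp_id f := NodeHom.ext (Category.comp_id _)
  assoc f g h := NodeHom.ext (Category.assoc _ _ _)

/-- pull a node back along a map of neighbourhoods -/
def Node.restrict (N : Node T) {U' : C} (u' : T.F.obj U') (m : U' ⟶ N.U) (hm : T.F.map m u' = N.u) : Node T where
  U := U'
  u := u'
  h := m ≫ N.h
  hu := by rw [Functor.map_comp_apply, hm, N.hu]
  s := N.s
  t a ha := m ≫ N.t a ha
  ht a ha := by rw [Functor.map_comp_apply, hm, N.ht]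

def Node.restrictHom (N : Node T) {U' : C} (u' : T.F.obj U') (m : U' ⟶ N.U) (hm : T.F.map m u' = N.u) :
    N.restrict u' m hm ⟶ N :=
  ⟨m, hm, rfl, Finset.Subset.refl _, fun _ _ => rfl⟩

lemma exists_node {U : C} (u : T.F.obj U) : ∃ (N : Node T) (m : N.U ⟶ U), T.F.map m N.u = u := by
  obtain ⟨U', u', a, b, ha, hb⟩ := T.exists_cone u T.x
  exact ⟨⟨U', u', b, hb, ∅, fun a h => absurd h (Finset.notMem_empty a), fun a h => absurd h (Finset.notMem_empty a)⟩,
    a, ha⟩

lemma exists_node_req (a : Req T) : ∃ N : Node T, a ∈ N.s := by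
  classical
  obtain ⟨U', u', c, b, hc, hb⟩ := T.exists_cone a.y T.x
  refine ⟨⟨U', u', b, hb, {a}, fun e he => c ≫ eqToHom (by rw [Finset.mem_singleton.1 he]), ?_⟩,
    Finset.mem_singleton_self a⟩
  intro e he
  obtain rfl := Finset.mem_singleton.1 he
  simp [hc]

lemma exists_join (N N' : Node T) : ∃ M : Node T, Nonempty (M ⟶ N) ∧ Nonempty (M ⟶ N') := by
  classical
  obtain ⟨U₀, u₀, a, b, ha, hb⟩ := T.exists_cone N.u N'.u
  obtain ⟨U₁, u₁, m₁, hm₁, he₁⟩ := T.exists_eq u₀ (a ≫ N.h) (b ≫ N'.h) (by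
    rw [Functor.map_comp_apply, Functor.map_comp_apply, ha, hb, N.hu, N'.hu])
  let I := (N.s ∩ N'.s).attach
  obtain ⟨U₂, u₂, m₂, hm₂, he₂⟩ := T.exists_eq_finset u₁ I (fun i => i.1.Y)
    (fun i => m₁ ≫ a ≫ N.t i.1 (Finset.mem_inter.1 i.2).1)
    (fun i => m₁ ≫ b ≫ N'.t i.1 (Finset.mem_inter.1 i.2).2)
    (fun i _ => by simp only [Functor.map_comp_apply, hm₁, ha, hb, N.ht, N'.ht])
  let pa := m₂ ≫ m₁ ≫ a
  let pb := m₂ ≫ m₁ ≫ b
  have hpa : T.F.map pa u₂ = N.u := by simp only [pa, Functor.map_comp_apply, hm₂, hm₁, ha]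
  have hpb : T.F.map pb u₂ = N'.u := by simp only [pb, Functor.map_comp_apply, hm₂, hm₁, hb]
  let t : ∀ e ∈ N.s ∪ N'.s, U₂ ⟶ e.Y := fun e he =>
    if h : e ∈ N.s then pa ≫ N.t e h else pb ≫ N'.t e ((Finset.mem_union.1 he).resolve_left h)
  refine ⟨⟨U₂, u₂, pa ≫ N.h, by rw [Functor.map_comp_apply, hpa, N.hu], N.s ∪ N'.s, t, fun e he => ?_⟩,
    ⟨⟨pa, hpa, rfl, Finset.subset_union_left, fun e he => ?_⟩⟩, ⟨⟨pb, hpb, ?_, Finset.subset_union_right, fun e he => ?_⟩⟩⟩
  · show T.F.map (t e he) u₂ = e.y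
    by_cases h : e ∈ N.s
    · simp only [t, dif_pos h]; rw [Functor.map_comp_apply, hpa, N.ht]
    · simp only [t, dif_neg h]; rw [Functor.map_comp_apply, hpb, N'.ht]
  · simp only [t, dif_pos he]
  · show pb ≫ N'.h = pa ≫ N.h
    simp only [pa, pb, Category.assoc]
    rw [← he₁]
  · show pb ≫ N'.t e he = t e (Finset.mem_union_right _ he)
    by_cases h : e ∈ N.s
    · simp only [t, dif_pos h, pa, pb, Category.assoc]
      exact (he₂ ⟨e, Finset.mem_inter.2 ⟨h, he⟩⟩ (Finset.mem_attach _ _)).symm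
    · simp only [t, dif_neg h]

instance : IsCofiltered (Node T) where
  nonempty := ⟨(exists_node T.x).choose⟩
  cone_objs N N' := by
    obtain ⟨M, ⟨f⟩, ⟨g⟩⟩ := exists_join N N'
    exact ⟨M, f, g, trivial⟩
  cone_maps {N N'} f g := by
    obtain ⟨U', u', m, hm, he⟩ := T.exists_eq N.u f.m g.m (f.hu.trans g.hu.symm)
    exact ⟨N.restrict u' m hm, N.restrictHom u' m hm, NodeHom.ext he⟩

/-- number of pieces of the chosen finite refinement -/
noncomputable def num (a : Req T) : ℕ := (hJ a.Y a.R a.mem).choose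
noncomputable def pieceObj (a : Req T) : Fin (num hJ a) → C := (hJ a.Y a.R a.mem).choose_spec.choose
noncomputable def pieceMap (a : Req T) : ∀ k, pieceObj hJ a k ⟶ a.Y :=
  (hJ a.Y a.R a.mem).choose_spec.choose_spec.choose

lemma pieceMap_mem (a : Req T) (k : Fin (num hJ a)) : a.R (pieceMap hJ a k) :=
  (hJ a.Y a.R a.mem).choose_spec.choose_spec.choose_spec.1 k

lemma pieces_cover (a : Req T) : Sieve.ofArrows (pieceObj hJ a) (pieceMap hJ a) ∈ J a.Y :=
  (hJ a.Y a.R a.mem).choose_spec.choose_spec.choose_spec.2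

/-- a choice of pieces -/
abbrev Choice (T : Stage J S) := ∀ a : Req T, Fin (num hJ a)

/-- lifts of a node to the chosen pieces -/
structure Lift (χ : Choice hJ T) {U : C} (s : Finset (Req T)) (t : ∀ a ∈ s, U ⟶ a.Y) (W : C) where
  w : W ⟶ U
  v : ∀ a ∈ s, W ⟶ pieceObj hJ a (χ a)
  hv : ∀ a ha, v a ha ≫ pieceMap hJ a (χ a) = w ≫ t a ha

@[ext]
lemma Lift.ext' {χ : Choice hJ T} {U : C} {s : Finset (Req T)} {t : ∀ a ∈ s, U ⟶ a.Y} {W : C}
    {L L' : Lift hJ χ s t W} (h1 : L.w = L'.w) (h2 : ∀ a ha, L.v a ha = L'.v a ha) : L = L' := by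
  obtain ⟨w, v, hv⟩ := L
  obtain ⟨w', v', hv'⟩ := L'
  obtain rfl : w = w' := h1
  obtain rfl : v = v' := funext fun a => funext fun ha => h2 a ha
  rfl

noncomputable def Lift.comp {χ : Choice hJ T} {U : C} {s : Finset (Req T)} {t : ∀ a ∈ s, U ⟶ a.Y} {W W' : C}
    (L : Lift hJ χ s t W) (m : W' ⟶ W) : Lift hJ χ s t W' :=
  ⟨m ≫ L.w, fun a ha => m ≫ L.v a ha, fun a ha => by rw [Category.assoc, L.hv, Category.assoc]⟩

variable [HasPullbacks C]

lemma exists_univ (χ : Choice hJ T) {U : C} (s : Finset (Req T)) (t : ∀ a ∈ s, U ⟶ a.Y) :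
    ∃ (W : C) (L : Lift hJ χ s t W), ∀ (W' : C) (L' : Lift hJ χ s t W'), ∃! m : W' ⟶ W, L.comp hJ m = L' := by
  classical
  induction s using Finset.induction with
  | empty =>
    refine ⟨U, ⟨𝟙 U, fun a h => absurd h (Finset.notMem_empty a), fun a h => absurd h (Finset.notMem_empty a)⟩,
      fun W' L' => ⟨L'.w, Lift.ext' hJ (Category.comp_id _) (fun a h => absurd h (Finset.notMem_empty a)), fun m hm => ?_⟩⟩
    rw [← hm]
    exact (Category.comp_id _).symm
  | @insert b s hb ih =>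
    obtain ⟨W, L, hL⟩ := ih (fun a ha => t a (Finset.mem_insert_of_mem ha))
    let tb := L.w ≫ t b (Finset.mem_insert_self b s)
    let gb := pieceMap hJ b (χ b)
    let v : ∀ a ∈ insert b s, pullback tb gb ⟶ pieceObj hJ a (χ a) := fun a ha =>
      if h : a = b then pullback.snd tb gb ≫ eqToHom (by rw [h])
      else pullback.fst tb gb ≫ L.v a ((Finset.mem_insert.1 ha).resolve_left h)
    refine ⟨pullback tb gb, ⟨pullback.fst tb gb ≫ L.w, v, fun a ha => ?_⟩, fun W' L' => ?_⟩
    · by_cases h : a = b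
      · subst h
        simp only [v, dite_true, eqToHom_refl, Category.comp_id]
        exact pullback.condition.symm.trans (Category.assoc _ _ _).symm
      · simp only [v, dif_neg h, Category.assoc]
        rw [L.hv]
    · obtain ⟨m, hm, hu⟩ := hL W' ⟨L'.w, fun a ha => L'.v a (Finset.mem_insert_of_mem ha),
        fun a ha => L'.hv a (Finset.mem_insert_of_mem ha)⟩
      have hmw : m ≫ L.w = L'.w := congrArg Lift.w hm
      refine ⟨pullback.lift m (L'.v b (Finset.mem_insert_self b s)) (by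
        show m ≫ L.w ≫ _ = _
        rw [← Category.assoc, hmw, L'.hv]), Lift.ext' hJ ?_ (fun a ha => ?_), fun m' hm' => ?_⟩
      · show pullback.lift m _ _ ≫ pullback.fst tb gb ≫ L.w = L'.w
        rw [pullback.lift_fst_assoc, hmw]
      · show pullback.lift m _ _ ≫ v a ha = L'.v a ha
        by_cases h : a = b
        · subst h
          simp [v]
        · simp only [v, dif_neg h, pullback.lift_fst_assoc]
          exact congrArg (fun l : Lift hJ χ s _ W' => l.v a ((Finset.mem_insert.1 ha).resolve_left h)) hm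
      · have hw' := congrArg Lift.w hm'
        apply pullback.hom_ext
        · rw [pullback.lift_fst]
          refine hu _ (Lift.ext' hJ ((Category.assoc _ _ _).trans hw') (fun a ha => ?_))
          have := congrArg (fun l : Lift hJ χ (insert b s) t W' => l.v a (Finset.mem_insert_of_mem ha)) hm'
          have hne : a ≠ b := fun e => hb (e ▸ ha)
          simp only [Lift.comp, v, dif_neg hne] at this
          exact (Category.assoc _ _ _).trans this
        · rw [pullback.lift_snd]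
          have := congrArg (fun l : Lift hJ χ (insert b s) t W' => l.v b (Finset.mem_insert_self b s)) hm'
          simpa [Lift.comp, v] using this

noncomputable def W (χ : Choice hJ T) (N : Node T) : C := (exists_univ hJ χ N.s N.t).choose
noncomputable def univ (χ : Choice hJ T) (N : Node T) : Lift hJ χ N.s N.t (W hJ χ N) :=
  (exists_univ hJ χ N.s N.t).choose_spec.choose

lemma univ_spec (χ : Choice hJ T) (N : Node T) (W' : C) (L' : Lift hJ χ N.s N.t W') :
    ∃! m : W' ⟶ W hJ χ N, (univ hJ χ N).comp hJ m = L' :=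
  (exists_univ hJ χ N.s N.t).choose_spec.choose_spec W' L'

noncomputable def Lift.push {χ : Choice hJ T} {N N' : Node T} (f : N ⟶ N') {W : C} (L : Lift hJ χ N.s N.t W) :
    Lift hJ χ N'.s N'.t W :=
  ⟨L.w ≫ f.m, fun a ha => L.v a (f.sub ha), fun a ha => by rw [L.hv, Category.assoc, f.ht]⟩

noncomputable def Wmap (χ : Choice hJ T) {N N' : Node T} (f : N ⟶ N') : W hJ χ N ⟶ W hJ χ N' :=
  (univ_spec hJ χ N' _ ((univ hJ χ N).push hJ f)).exists.choose

lemma Wmap_spec (χ : Choice hJ T) {N N' : Node T} (f : N ⟶ N') :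
    (univ hJ χ N').comp hJ (Wmap hJ χ f) = (univ hJ χ N).push hJ f :=
  (univ_spec hJ χ N' _ ((univ hJ χ N).push hJ f)).exists.choose_spec

lemma Wmap_w (χ : Choice hJ T) {N N' : Node T} (f : N ⟶ N') :
    Wmap hJ χ f ≫ (univ hJ χ N').w = (univ hJ χ N).w ≫ f.m :=
  congrArg Lift.w (Wmap_spec hJ χ f)

lemma Wmap_v (χ : Choice hJ T) {N N' : Node T} (f : N ⟶ N') (a : Req T) (ha : a ∈ N'.s) :
    Wmap hJ χ f ≫ (univ hJ χ N').v a ha = (univ hJ χ N).v a (f.sub ha) :=
  congrArg (fun l : Lift hJ χ N'.s N'.t _ => l.v a ha) (Wmap_spec hJ χ f)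

noncomputable def pFunctor (χ : Choice hJ T) : Node T ⥤ C where
  obj := W hJ χ
  map f := Wmap hJ χ f
  map_id N := (univ_spec hJ χ N _ ((univ hJ χ N).push hJ (𝟙 N))).unique (Wmap_spec hJ χ (𝟙 N))
    (Lift.ext' hJ (by
      show 𝟙 _ ≫ (univ hJ χ N).w = (univ hJ χ N).w ≫ 𝟙 _
      rw [Category.id_comp, Category.comp_id]) (fun a ha => Category.id_comp _))
  map_comp {N N' N''} f g := (univ_spec hJ χ N'' _ ((univ hJ χ N).push hJ (f ≫ g))).unique (Wmap_spec hJ χ (f ≫ g))
    (Lift.ext' hJ (by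
      show (Wmap hJ χ f ≫ Wmap hJ χ g) ≫ (univ hJ χ N'').w = (univ hJ χ N).w ≫ f.m ≫ g.m
      rw [Category.assoc, Wmap_w, ← Category.assoc, Wmap_w, Category.assoc]) (fun a ha => by
      show (Wmap hJ χ f ≫ Wmap hJ χ g) ≫ (univ hJ χ N'').v a ha = (univ hJ χ N).v a _
      rw [Category.assoc, Wmap_v, Wmap_v]))

lemma exists_good_lift (N : Node T) (χ₀ : Choice hJ T) (s : Finset (Req T)) (hs : s ⊆ N.s) :
    ∃ (χ : Choice hJ T) (W : C) (L : Lift hJ χ s (fun a ha => N.t a (hs ha)) W), Good J S (L.w ≫ N.h) := by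
  classical
  induction s using Finset.induction with
  | empty =>
    exact ⟨χ₀, N.U, ⟨𝟙 _, fun a h => absurd h (Finset.notMem_empty a), fun a h => absurd h (Finset.notMem_empty a)⟩,
      by rw [Category.id_comp]; exact T.inv _ _ _ N.hu⟩
  | @insert b s hb ih =>
    obtain ⟨χ, W, L, hg⟩ := ih (fun a ha => hs (Finset.mem_insert_of_mem ha))
    obtain ⟨k, hk⟩ := hg.exists_piece J S (L.w ≫ N.t b (hs (Finset.mem_insert_self b s))) (pieces_cover hJ b)
    let χ' := Function.update χ b k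
    have e1 : χ' b = k := Function.update_self ..
    have e2 : ∀ a, a ≠ b → χ' a = χ a := fun a ha => Function.update_of_ne ha ..
    have nat : ∀ (a : Req T) {i i' : Fin (num hJ a)} (e : i' = i),
        eqToHom (congrArg (pieceObj hJ a) e.symm) ≫ pieceMap hJ a i' = pieceMap hJ a i := by
      intro a i i' e; subst e; simp
    let P := pullback (L.w ≫ N.t b (hs (Finset.mem_insert_self b s))) (pieceMap hJ b k)
    let v : ∀ a ∈ insert b s, P ⟶ pieceObj hJ a (χ' a) := fun a ha =>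
      if h : a = b then pullback.snd _ _ ≫ eqToHom (by subst h; rw [e1])
      else pullback.fst _ _ ≫ L.v a ((Finset.mem_insert.1 ha).resolve_left h) ≫ eqToHom (by rw [e2 a h])
    refine ⟨χ', P, ⟨pullback.fst _ _ ≫ L.w, v, fun a ha => ?_⟩, by rw [Category.assoc]; exact hk⟩
    by_cases h : a = b
    · subst h
      simp only [v, dite_true, Category.assoc]
      exact (congrArg (pullback.snd _ _ ≫ ·) (nat a e1)).trans pullback.condition.symm
    · simp only [v, dif_neg h, Category.assoc]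
      exact (congrArg (fun z => pullback.fst _ _ ≫ L.v a _ ≫ z) (nat a (e2 a h))).trans
        (congrArg (pullback.fst _ _ ≫ ·) (L.hv a _))

include hJ in
lemma num_pos (a : Req T) : Nonempty (Fin (num hJ a)) := by
  obtain ⟨N, ha⟩ := exists_node_req a
  obtain ⟨k, -⟩ := Good.exists_piece J S (T.inv _ _ _ N.hu) (N.t a ha) (pieces_cover hJ a)
  exact ⟨k⟩

/-- compactness -/
lemma exists_good_choice : ∃ χ : Choice hJ T, ∀ N : Node T, Good J S ((univ hJ χ N).w ≫ N.h) := by
  classical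
  let χ₀ : Choice hJ T := fun a => (num_pos hJ a).some
  choose χN W₀ L₀ hgood using fun N : Node T => exists_good_lift hJ N χ₀ N.s (Finset.Subset.refl _)
  let tail : Node T → Set (Node T) := fun N => {M | Nonempty (M ⟶ N)}
  haveI : Nonempty (Node T) := IsCofiltered.nonempty
  haveI hne : (⨅ N, Filter.principal (tail N)).NeBot := by
    refine Filter.iInf_neBot_of_directed (fun N N' => ?_) (fun N => Filter.principal_neBot_iff.2 ⟨N, ⟨𝟙 N⟩⟩)
    obtain ⟨M, ⟨f⟩, ⟨g⟩⟩ := exists_join N N'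
    exact ⟨M, Filter.principal_mono.2 (fun A ⟨h⟩ => ⟨h ≫ f⟩), Filter.principal_mono.2 (fun A ⟨h⟩ => ⟨h ≫ g⟩)⟩
  let 𝔘 := Ultrafilter.of (⨅ N, Filter.principal (tail N))
  have hmaj : ∀ a : Req T, ∃ k, ∀ᶠ N in (𝔘 : Filter (Node T)), χN N a = k := fun a => by
    have : ∀ᶠ N in (𝔘 : Filter (Node T)), ∃ k, χN N a = k := Filter.Eventually.of_forall (fun N => ⟨_, rfl⟩)
    exact Ultrafilter.eventually_exists_iff.1 this
  choose χ hχ using hmaj
  refine ⟨χ, fun N => ?_⟩
  have h1 : ∀ᶠ M in (𝔘 : Filter (Node T)), Nonempty (M ⟶ N) :=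
    Ultrafilter.of_le _ (Filter.mem_iInf_of_mem N (Filter.mem_principal_self _))
  have h2 : ∀ᶠ M in (𝔘 : Filter (Node T)), ∀ a ∈ N.s, χN M a = χ a :=
    (Filter.eventually_all_finset N.s).2 (fun a _ => hχ a)
  obtain ⟨M, ⟨f⟩, hM⟩ := (h1.and h2).exists
  have nat : ∀ (a : Req T) {i i' : Fin (num hJ a)} (e : i' = i),
      eqToHom (congrArg (pieceObj hJ a) e.symm) ≫ pieceMap hJ a i' = pieceMap hJ a i := by
    intro a i i' e; subst e; simp
  let L' : Lift hJ χ N.s N.t (W₀ M) :=
    ⟨(L₀ M).w ≫ f.m, fun a ha => (L₀ M).v a (f.sub ha) ≫ eqToHom (congrArg (pieceObj hJ a) (hM a ha)),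
      fun a ha => by
        rw [Category.assoc, nat a (hM a ha).symm, (L₀ M).hv, Category.assoc, f.ht]⟩
  obtain ⟨m, hm, -⟩ := univ_spec hJ χ N _ L'
  refine Good.of_comp J S m ?_
  have hw : m ≫ (univ hJ χ N).w = (L₀ M).w ≫ f.m := congrArg Lift.w hm
  rw [reassoc_of% hw, f.hh]
  exact hgood M

open GrothendieckTopology.Point.ofIsCofiltered in
/-- one step of the construction -/
lemma exists_next (T : Stage J S) (hJ : ∀ (U : C) (R : Sieve U), R ∈ J U →
    ∃ (n : ℕ) (V : Fin n → C) (g : ∀ k, V k ⟶ U), (∀ k, R (g k)) ∧ Sieve.ofArrows V g ∈ J U) :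
    ∃ (T' : Stage J S) (η : T.F ⟶ T'.F), η.app X T.x = T'.x ∧
      ∀ (Y : C) (y : T.F.obj Y) (R : Sieve Y), R ∈ J Y →
        ∃ (Z : C) (g : Z ⟶ Y) (_ : R g) (z : T'.F.obj Z), T'.F.map g z = η.app Y y := by
  classical
  obtain ⟨χ, hχ⟩ := exists_good_choice hJ (T := T)
  haveI : InitiallySmall.{max w v} (Node T) := by
    haveI : LocallySmall.{max w v} (Node T) := ⟨fun N N' => by
      haveI : Small.{max w v} (N.U ⟶ N'.U) := inferInstance
      exact small_of_injective (f := fun f : N ⟶ N' => f.m) (fun f g h => NodeHom.ext h)⟩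
    haveI : EssentiallySmall.{max w v} (Node T) := essentiallySmall_of_small_of_locallySmall _
    exact initiallySmall_of_essentiallySmall _
  let p := pFunctor hJ χ
  let Fn := fiber.{max w v} p
  have key : ∀ (Y : C) (N N' : Node T) (m : N.U ⟶ Y) (m' : N'.U ⟶ Y), T.F.map m N.u = T.F.map m' N'.u →
      fiberMk.{max w v} (p := p) ((univ hJ χ N).w ≫ m) = fiberMk.{max w v} (p := p) ((univ hJ χ N').w ≫ m') := by
    intro Y N N' m m' h
    obtain ⟨M, ⟨f⟩, ⟨g⟩⟩ := exists_join N N'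
    obtain ⟨U', u', r, hr, he⟩ := T.exists_eq M.u (f.m ≫ m) (g.m ≫ m') (by
      rw [Functor.map_comp_apply, Functor.map_comp_apply, f.hu, g.hu, h])
    let k := M.restrictHom u' r hr
    rw [← fiberMk_map_comp p (k ≫ f) ((univ hJ χ N).w ≫ m), ← fiberMk_map_comp p (k ≫ g) ((univ hJ χ N').w ≫ m')]
    refine congrArg _ ?_
    show Wmap hJ χ (k ≫ f) ≫ _ = Wmap hJ χ (k ≫ g) ≫ _
    rw [← Category.assoc, ← Category.assoc, Wmap_w, Wmap_w, Category.assoc, Category.assoc]
    exact congrArg _ ((Category.assoc _ _ _).trans (he.trans (Category.assoc _ _ _).symm))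
  choose nd md hmd using fun (Y : C) (y : T.F.obj Y) => exists_node y
  let η : T.F ⟶ Fn :=
    { app := fun Y => ↾fun y => fiberMk.{max w v} (p := p) ((univ hJ χ (nd Y y)).w ≫ md Y y)
      naturality := fun {Y Y'} e => by
        ext y
        show fiberMk.{max w v} (p := p) ((univ hJ χ (nd Y' (T.F.map e y))).w ≫ md Y' (T.F.map e y)) = Fn.map e (fiberMk.{max w v} _)
        rw [show Fn.map e (fiberMk.{max w v} (p := p) ((univ hJ χ (nd Y y)).w ≫ md Y y)) = _ from fiber_map_fiberMk p _ e,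
          Category.assoc]
        exact key _ _ _ _ _ (by rw [hmd, Functor.map_comp_apply, hmd]) }
  have hη : ∀ (Y : C) (N : Node T) (m : N.U ⟶ Y),
      η.app Y (T.F.map m N.u) = fiberMk.{max w v} (p := p) ((univ hJ χ N).w ≫ m) :=
    fun Y N m => key _ _ _ _ _ (hmd _ _)
  refine ⟨⟨Fn, inferInstanceAs (IsCofiltered (fiber.{max w v} p).Elements), η.app X T.x, fun U u h hu => ?_⟩, η, rfl,
    fun Y y R hR => ?_⟩
  · obtain ⟨N, f, rfl⟩ := fiberMk_jointly_surjective u
    have e : fiberMk.{max w v} (p := p) (f ≫ h) = fiberMk.{max w v} (p := p) ((univ hJ χ N).w ≫ N.h) := by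
      rw [← fiber_map_fiberMk p f h, hu, ← hη X N N.h, N.hu]
    obtain ⟨M, g, hg⟩ := exists_of_fiberMk_eq_fiberMk e
    refine Good.of_comp J S (p.map g ≫ f) ?_
    rw [Category.assoc, hg]
    show Good J S (Wmap hJ χ g ≫ (univ hJ χ N).w ≫ N.h)
    rw [← Category.assoc, Wmap_w, Category.assoc, g.hh]
    exact hχ M
  · let a : Req T := ⟨Y, y, R, hR⟩
    obtain ⟨N, ha⟩ := exists_node_req a
    refine ⟨_, pieceMap hJ a (χ a), pieceMap_mem hJ a (χ a), fiberMk.{max w v} (p := p) ((univ hJ χ N).v a ha), ?_⟩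
    rw [fiber_map_fiberMk, (univ hJ χ N).hv, ← hη a.Y N (N.t a ha), N.ht]

end Stage

variable [HasPullbacks C]

/-- the first stage -/
lemma exists_initial (hS : S ∉ J X) : Nonempty (Stage J S) := by
  let F : C ⥤ Type (max w v) := shrinkYoneda.{max w v}.flip.obj (op X)
  let E : ∀ {Y : C}, (shrinkYoneda.{max w v}.obj Y).obj (op X) ≃ (X ⟶ Y) := shrinkYonedaObjObjEquiv
  let x₀ : F.obj X := E.symm (𝟙 X)
  have hx : ∀ {Y : C} (y : F.obj Y) , F.map (E y) x₀ = y := fun {Y} y => by
    show (shrinkYoneda.{max w v}.map (E y)).app (op X) (E.symm (𝟙 X)) = y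
    rw [shrinkYoneda_map_app_shrinkYonedaObjObjEquiv_symm, Category.id_comp]
    exact E.symm_apply_apply y
  have hcomp : ∀ {Y Y' : C} (f : Y ⟶ Y') (y : F.obj Y), E (F.map f y) = E y ≫ f := fun {Y Y'} f y => by
    obtain ⟨a, rfl⟩ := E.symm.surjective y
    show E ((shrinkYoneda.{max w v}.map f).app (op X) (E.symm a)) = _
    rw [shrinkYoneda_map_app_shrinkYonedaObjObjEquiv_symm]
    exact (E.apply_symm_apply _).trans (congrArg (· ≫ f) (E.apply_symm_apply a).symm)
  haveI : IsCofiltered F.Elements :=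
    { nonempty := ⟨⟨X, x₀⟩⟩
      cone_objs := fun a b => ⟨⟨X, x₀⟩, CategoryOfElements.homMk _ _ (E a.2) (hx a.2),
        CategoryOfElements.homMk _ _ (E b.2) (hx b.2), trivial⟩
      cone_maps := fun {a b} f g => ⟨⟨X, x₀⟩, CategoryOfElements.homMk _ _ (E a.2) (hx a.2),
        CategoryOfElements.ext _ _ _ (by
          show E a.2 ≫ f.1 = E a.2 ≫ g.1
          rw [← hcomp, ← hcomp, f.2, g.2])⟩ }
  refine ⟨⟨F, inferInstance, x₀, fun U u h hu hc => hS ?_⟩⟩
  have hu' : E u ≫ h = 𝟙 X := by rw [← hcomp, hu]; exact E.apply_symm_apply _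
  have := J.pullback_stable (E u) hc
  rwa [← Sieve.pullback_comp, hu', Sieve.pullback_id] at this

include hJ in
theorem exists_point (hS : S ∉ J X) :
    ∃ (Φ : GrothendieckTopology.Point.{max w v} J) (x : Φ.fiber.obj X),
      ∀ (Y : C) (g : Y ⟶ X), S g → ∀ y, Φ.fiber.map g y ≠ x := by
  obtain ⟨T₀⟩ := exists_initial hS
  choose next η hx hsurj using fun T : Stage J S => T.exists_next hJ
  let Ts : ℕ → Stage J S := fun n => n.rec T₀ (fun _ T => next T)
  let G : ℕ ⥤ (C ⥤ Type (max w v)) := Functor.ofSequence (X := fun n => (Ts n).F) (fun n => η (Ts n))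
  have hG : ∀ n, G.map (homOfLE (Nat.le_succ n)) = η (Ts n) := fun n => Functor.ofSequence_map_homOfLE_succ _ n
  let Fc := colimit G
  have hFc : ∀ Y : C, IsColimit (((evaluation C (Type (max w v))).obj Y).mapCocone (colimit.cocone G)) :=
    fun Y => isColimitOfPreserves _ (colimit.isColimit G)
  have hrep : ∀ {Y : C} (y : Fc.obj Y), ∃ n, ∃ z : (Ts n).F.obj Y, (colimit.ι G n).app Y z = y := fun {Y} y =>
    Types.jointly_surjective _ (hFc Y) y
  have hup : ∀ {n m : ℕ} (h : n ≤ m) {Y : C} (z : (Ts n).F.obj Y),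
      (colimit.ι G m).app Y ((G.map (homOfLE h)).app Y z) = (colimit.ι G n).app Y z := fun {n m} h {Y} z =>
    ConcreteCategory.congr_hom (NatTrans.congr_app (colimit.w G (homOfLE h)) Y) z
  have heq : ∀ {Y : C} {n : ℕ} (z z' : (Ts n).F.obj Y), (colimit.ι G n).app Y z = (colimit.ι G n).app Y z' →
      ∃ m, ∃ h : n ≤ m, (G.map (homOfLE h)).app Y z = (G.map (homOfLE h)).app Y z' := fun {Y n} z z' e => by
    obtain ⟨m, f, hf⟩ := (Types.FilteredColimit.isColimit_eq_iff' (hFc Y) z z').1 e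
    exact ⟨m, leOfHom f, hf⟩
  have hnat : ∀ (n : ℕ) {Y Y' : C} (f : Y ⟶ Y') (z : (Ts n).F.obj Y),
      (colimit.ι G n).app Y' ((Ts n).F.map f z) = Fc.map f ((colimit.ι G n).app Y z) := fun n {Y Y'} f z =>
    NatTrans.naturality_apply (colimit.ι G n) f z
  have hnat' : ∀ {n m : ℕ} (h : n ≤ m) {Y Y' : C} (f : Y ⟶ Y') (z : (Ts n).F.obj Y),
      (G.map (homOfLE h)).app Y' ((Ts n).F.map f z) = (Ts m).F.map f ((G.map (homOfLE h)).app Y z) :=
    fun {n m} h {Y Y'} f z => NatTrans.naturality_apply (G.map (homOfLE h)) f z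
  have hxn : ∀ n, (colimit.ι G n).app X (Ts n).x = (colimit.ι G 0).app X T₀.x := fun n => by
    induction n with
    | zero => rfl
    | succ n ih =>
      rw [← ih, ← hup (Nat.le_succ n), hG]
      exact congrArg ((colimit.ι G (n + 1)).app X) (hx (Ts n)).symm
  haveI : IsCofiltered Fc.Elements :=
    { nonempty := ⟨⟨X, (colimit.ι G 0).app X T₀.x⟩⟩
      cone_objs := fun a b => by
        obtain ⟨n, z, hz⟩ := hrep a.2
        obtain ⟨m, z', hz'⟩ := hrep b.2
        obtain ⟨U, u, f, g, hf, hg⟩ := (Ts (max n m)).exists_cone ((G.map (homOfLE (le_max_left n m))).app a.1 z)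
          ((G.map (homOfLE (le_max_right n m))).app b.1 z')
        exact ⟨⟨U, (colimit.ι G (max n m)).app U u⟩, CategoryOfElements.homMk _ _ f (by rw [← hnat, hf, hup, hz]),
          CategoryOfElements.homMk _ _ g (by rw [← hnat, hg, hup, hz']), trivial⟩
      cone_maps := fun {a b} f g => by
        obtain ⟨n, z, hz⟩ := hrep a.2
        obtain ⟨m, h, e⟩ := heq ((Ts n).F.map f.1 z) ((Ts n).F.map g.1 z) (by
          rw [hnat, hnat, hz, f.2, g.2])
        rw [hnat', hnat'] at e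
        obtain ⟨U, u, r, hr, he⟩ := (Ts m).exists_eq _ f.1 g.1 e
        exact ⟨⟨U, (colimit.ι G m).app U u⟩, CategoryOfElements.homMk _ _ r (by rw [← hnat, hr, hup, hz]), CategoryOfElements.ext _ _ _ he⟩ }
  haveI : InitiallySmall.{max w v} Fc.Elements := by
    haveI : EssentiallySmall.{max w v} Fc.Elements := by
      haveI : Small.{max w v} Fc.Elements := small_sigma _
      exact essentiallySmall_of_small_of_locallySmall _
    exact initiallySmall_of_essentiallySmall _
  refine ⟨{ fiber := Fc, jointly_surjective := fun {Y} R hR y => ?_ }, (colimit.ι G 0).app X T₀.x,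
    fun Y g hg y e => ?_⟩
  · obtain ⟨n, z, rfl⟩ := hrep y
    obtain ⟨Z, g, hg, w, hw⟩ := hsurj (Ts n) Y z R hR
    refine ⟨Z, g, hg, (colimit.ι G (n + 1)).app Z w, ?_⟩
    refine (hnat (n + 1) g w).symm.trans ((congrArg _ hw).trans ?_)
    rw [← hG n]
    exact hup (Nat.le_succ n) z
  · obtain ⟨n, z, rfl⟩ := hrep y
    change Fc.map g _ = _ at e
    rw [← hnat, ← hxn n] at e
    obtain ⟨m, h, e'⟩ := heq _ _ e
    rw [hnat'] at e'
    have hxm : (G.map (homOfLE h)).app X (Ts n).x = (Ts m).x := by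
      clear e e'
      induction h with
      | refl => exact ConcreteCategory.congr_hom (NatTrans.congr_app (G.map_id n) X) (Ts n).x
      | @step m h ih =>
        rw [← homOfLE_comp h (Nat.le_succ m), G.map_comp]
        show (G.map (homOfLE (Nat.le_succ m))).app X ((G.map (homOfLE h)).app X (Ts n).x) = _
        rw [ih, hG]
        exact hx (Ts m)
    refine (Ts m).inv Y _ g (e'.trans hxm) ?_
    rw [Sieve.mem_iff_pullback_eq_top] at hg
    rw [hg]
    exact J.top_mem _

end Groth.Agent.QCTopos.Deligne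

namespace Groth.Agent.QCTopos

theorem hasEnoughPoints_of_finite_covers (C : Type (max w v)) [Category.{v} C] [HasPullbacks C] (J : GrothendieckTopology C)
    (hJ : ∀ (U : C) (S : Sieve U), S ∈ J U →
      ∃ (n : ℕ) (V : Fin n → C) (g : ∀ k, V k ⟶ U), (∀ k, S (g k)) ∧ Sieve.ofArrows V g ∈ J U) :
    GrothendieckTopology.HasEnoughPoints.{max w v} J := by
  classical
  let I := Σ (X : C), {S : Sieve X // S ∉ J X}
  choose Φ x hΦ using fun i : I => Deligne.exists_point hJ i.2.2
  refine ⟨⟨ObjectProperty.ofObj Φ, inferInstance, ?_⟩⟩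
  haveI : EssentiallySmall.{max w v} C := essentiallySmall_of_small_of_locallySmall _
  haveI : HasSheafify J (Type (max w v)) := hasSheafifyEssentiallySmallSite _ _
  apply ObjectProperty.IsConservativeFamilyOfPoints.mk'
  intro X S h
  by_contra hS
  obtain ⟨Y, g, hg, y, hy⟩ := h ⟨Φ ⟨X, S, hS⟩, ObjectProperty.ofObj_apply Φ _⟩ (x ⟨X, S, hS⟩)
  exact hΦ ⟨X, S, hS⟩ Y g hg y hy

end Groth.Agent.QCTopos
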