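import Groth.Agent.QCTopos.Basic

/-! # Quasi-compact and quasi-separated morphisms and objects in a sheaf topos -/

set_option autoImplicit false
set_option linter.all false
set_option backward.isDefEq.respectTransparency false
set_option backward.defeqAttrib.useBackward true

universe w w' u

open CategoryTheory CategoryTheory.Limits Opposite

namespace Groth.Agent.QCTopos

open ToposFin Giraud

variable {C : Type u} [SmallCategory C] {J : GrothendieckTopology C} {X Y Z W : Sh J}

lemma qcHom_pullback {f : X ⟶ Y} (hf : IsQCHom f) {P Y' : Sh J} {p : P ⟶ X} {q : P ⟶ Y'} {g : Y' ⟶ Y}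
    (h : IsPullback p q f g) (hY' : IsQC Y') : IsQC P :=
  isQC_of_iso h.isoPullback.symm (hf Y' g hY')

lemma qs_pullback (hX : IsQS X) {P A B : Sh J} {p : P ⟶ A} {q : P ⟶ B} {a : A ⟶ X} {b : B ⟶ X}
    (h : IsPullback p q a b) (hA : IsQC A) (hB : IsQC B) : IsQC P :=
  isQC_of_iso h.isoPullback.symm (hX A B a b hA hB)

lemma qcHom_baseChange {f : X ⟶ Y} (hf : IsQCHom f) {P Y' : Sh J} {p : P ⟶ X} {q : P ⟶ Y'} {g : Y' ⟶ Y}
    (h : IsPullback p q f g) : IsQCHom q := by
  intro W k hW
  exact qcHom_pullback hf ((IsPullback.of_hasPullback q k).paste_horiz h) hW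

lemma qcHom_comp {f : X ⟶ Y} {g : Y ⟶ Z} (hf : IsQCHom f) (hg : IsQCHom g) : IsQCHom (f ≫ g) := by
  intro W k hW
  have h1 := IsPullback.of_hasPullback f (pullback.fst g k)
  exact isQC_of_iso (h1.paste_vert (IsPullback.of_hasPullback g k)).isoPullback
    (qcHom_pullback hf h1 (hg W k hW))

lemma qcHom_of_isIso (f : X ⟶ Y) [IsIso f] : IsQCHom f :=
  fun W k hW => isQC_of_iso (asIso (pullback.snd f k)).symm hW

/-- quasi-compactness may be checked on a covering of the source -/
lemma isQC_pullback_of_cover {A B : Sh J} (a : A ⟶ X) (b : B ⟶ X) {κ : Type w} [Finite κ] {F : κ → Sh J}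
    {π : ∀ k, F k ⟶ A} (hπ : JE π) (h : ∀ k, IsQC (pullback (π k ≫ a) b)) : IsQC (pullback a b) := by
  haveI : Small.{u} κ := Countable.toSmall κ
  refine isQC_of_finite_cover (hπ.pullback_snd (pullback.fst a b)) (fun k => ?_)
  exact isQC_of_iso (pullbackRightPullbackFstIso a b (π k)).symm (h k)

lemma qcHom_of_finite_cover {g : Y ⟶ Z} {κ : Type w} [Finite κ] {F : κ → Sh J} {π : ∀ k, F k ⟶ Y} (hπ : JE π)
    (h : ∀ k, IsQCHom (π k ≫ g)) : IsQCHom g :=
  fun W s hW => isQC_pullback_of_cover g s hπ (fun k => h k W s hW)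

lemma isQC_pullback_symm {A B : Sh J} {a : A ⟶ X} {b : B ⟶ X} (h : IsQC (pullback a b)) : IsQC (pullback b a) :=
  isQC_of_iso (pullbackSymmetry a b) h

lemma isQC_pullback_of_cover_right {A B : Sh J} (a : A ⟶ X) (b : B ⟶ X) {κ : Type w} [Finite κ] {F : κ → Sh J}
    {π : ∀ k, F k ⟶ B} (hπ : JE π) (h : ∀ k, IsQC (pullback a (π k ≫ b))) : IsQC (pullback a b) :=
  isQC_pullback_symm (isQC_pullback_of_cover b a hπ (fun k => isQC_pullback_symm (h k)))

section Generators

variable {α : Type w} {G : α → Sh J}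
  (hgen : ∀ X : Sh J, ∃ (ι : Type u) (a : ι → α) (π : ∀ i, G (a i) ⟶ X), Epi (Sigma.desc π))

include hgen in
/-- quasi-compactness of a morphism may be checked on generators -/
lemma qcHom_of_generators {f : X ⟶ Y} (h : ∀ (a : α) (s : G a ⟶ Y), IsQC (pullback f s)) : IsQCHom f := by
  intro W k hW
  obtain ⟨κ, hκ, a, π, hπ⟩ := qc_fin_cover hW (hgen W)
  exact isQC_pullback_of_cover_right f k hπ (fun j => h _ _)

include hgen in
lemma isQS_of_generators (h : ∀ (a : α) (s : G a ⟶ Y), IsQCHom s) : IsQS Y := by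
  intro A B a b hA hB
  obtain ⟨κ, hκ, i, π, hπ⟩ := qc_fin_cover hA (hgen A)
  exact isQC_pullback_of_cover a b hπ (fun j => h _ _ _ b hB)

end Generators

lemma qcHom_of_isQS {A : Sh J} (hY : IsQS Y) (hA : IsQC A) (a : A ⟶ Y) : IsQCHom a :=
  fun W k hW => hY A W a k hA hW

/-- the quasi-compact objects form a generating family -/
lemma gen_of_hasQCGenerators (hE : HasQCGenerators J) (X : Sh J) :
    ∃ (ι : Type u) (a : ι → {A : Sh J // IsQC A}) (π : ∀ i, (a i).1 ⟶ X), Epi (Sigma.desc π) := by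
  obtain ⟨ι, F, π, hF, hπ⟩ := hE X
  exact ⟨ι, fun i => ⟨F i, hF i⟩, π, hπ⟩

lemma hasQC_of_coherent (hE : HasCoherentGenerators J) : HasQCGenerators J := fun X => by
  obtain ⟨ι, F, π, hF, hπ⟩ := hE X
  exact ⟨ι, F, π, fun i => (hF i).1, hπ⟩

/-- quasi-compactness of a morphism is local on the target -/
lemma qcHom_local (hE : HasQCGenerators J) {f : X ⟶ Y} {ι : Type w} [Small.{u} ι] {Yi : ι → Sh J}
    {g : ∀ i, Yi i ⟶ Y} (hg : JE g) {P : ι → Sh J} {p : ∀ i, P i ⟶ X} {q : ∀ i, P i ⟶ Yi i}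
    (hP : ∀ i, IsPullback (p i) (q i) f (g i)) (h : ∀ i, IsQCHom (q i)) : IsQCHom f := by
  intro W k hW
  have hW' : JE (fun i => pullback.snd (g i) k) := hg.pullback_snd k
  choose κ F π hF hπ using fun i => hE (pullback (g i) k)
  have hcov := hW'.trans (fun i => (epi_desc_iff (π i)).1 (hπ i))
  haveI : Small.{u} (Σ i, κ i) := inferInstance
  have hcov' := hcov.reindex _ (equivShrink.{u} (Σ i, κ i)).symm.surjective
  obtain ⟨s, hs⟩ := qc_finite hW hcov'
  refine isQC_pullback_of_cover_right f k hs (fun x => ?_)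
  generalize (equivShrink.{u} (Σ i, κ i)).symm x.1 = j
  obtain ⟨i, m⟩ := j
  have e : (π i m ≫ pullback.fst (g i) k) ≫ g i = (π i m ≫ pullback.snd (g i) k) ≫ k := by
    rw [Category.assoc, Category.assoc, pullback.condition]
  have h1 := (IsPullback.of_hasPullback (q i) (π i m ≫ pullback.fst (g i) k)).paste_horiz (hP i)
  rw [e] at h1
  exact isQC_of_iso h1.isoPullback (h i _ _ (hF i m))

/-- quasi-separated morphisms, in terms of any kernel pair -/
lemma qsHom_iff {f : X ⟶ Y} {P : Sh J} {p q : P ⟶ X} (h : IsPullback p q f f) {d : X ⟶ P}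
    (hp : d ≫ p = 𝟙 X) (hq : d ≫ q = 𝟙 X) : IsQSHom f ↔ IsQCHom d := by
  have e : pullback.diagonal f = d ≫ h.isoPullback.hom := by
    apply pullback.hom_ext <;> simp [hp, hq]
  refine ⟨fun hf => ?_, fun hd => ?_⟩
  · have : IsPullback (𝟙 X) d (pullback.diagonal f) h.isoPullback.hom :=
      IsPullback.of_horiz_isIso ⟨by rw [Category.id_comp, e]⟩
    exact qcHom_baseChange hf this
  · show IsQCHom (pullback.diagonal f)
    rw [e]
    exact qcHom_comp hd (qcHom_of_isIso _)

lemma qsHom_of_mono (u : X ⟶ Y) [Mono u] : IsQSHom u :=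
  (qsHom_iff (IsKernelPair.id_of_mono u) (Category.comp_id _) (Category.comp_id _)).2 (qcHom_of_isIso _)

/-- pullback over the source as a base change of the diagonal -/
lemma isPullback_diagonal_map (f : X ⟶ Y) {A B : Sh J} (a : A ⟶ X) (b : B ⟶ X) :
    IsPullback (pullback.fst a b ≫ a)
      (pullback.lift (pullback.fst a b) (pullback.snd a b) (by rw [pullback.condition_assoc]) :
        pullback a b ⟶ pullback (a ≫ f) (b ≫ f))
      (pullback.diagonal f) (pullback.map (a ≫ f) (b ≫ f) f f a b (𝟙 Y) (by simp) (by simp)) := by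
  refine IsPullback.of_isLimit' ⟨?_⟩ ?_
  · apply pullback.hom_ext <;> simp [pullback.condition]
  · refine PullbackCone.IsLimit.mk _
      (fun s => pullback.lift (s.snd ≫ pullback.fst _ _) (s.snd ≫ pullback.snd _ _) ?_) (fun s => ?_) (fun s => ?_)
      (fun s m h1 h2 => ?_)
    · have h1 := congrArg (· ≫ pullback.fst f f) s.condition
      have h2 := congrArg (· ≫ pullback.snd f f) s.condition
      simp only [Category.assoc, pullback.diagonal_fst, pullback.diagonal_snd, Category.comp_id,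
        pullback.lift_fst, pullback.lift_snd] at h1 h2
      simp only [Category.assoc]
      exact h1.symm.trans h2
    · have h1 := congrArg (· ≫ pullback.fst f f) s.condition
      simp only [Category.assoc, pullback.diagonal_fst, Category.comp_id, pullback.lift_fst] at h1
      simp [h1]
    · apply pullback.hom_ext <;> simp
    · apply pullback.hom_ext <;> simp [← h2]

lemma qsHom_isQC_pullback {f : X ⟶ Y} (hf : IsQSHom f) {A B : Sh J} (a : A ⟶ X) (b : B ⟶ X)
    (h : IsQC (pullback (a ≫ f) (b ≫ f))) : IsQC (pullback a b) :=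
  qcHom_pullback hf (isPullback_diagonal_map f a b) h

lemma isQS_of_qsHom {f : X ⟶ Y} (hf : IsQSHom f) (hY : IsQS Y) : IsQS X :=
  fun A B a b hA hB => qsHom_isQC_pullback hf a b (hY A B _ _ hA hB)

lemma qsHom_of_comp {f : X ⟶ Y} {g : Y ⟶ Z} (h : IsQSHom (f ≫ g)) : IsQSHom f := by
  intro W s hW
  let j := pullback.map f f (f ≫ g) (f ≫ g) (𝟙 X) (𝟙 X) g (by simp) (by simp)
  haveI : Mono j := ⟨fun u v e => pullback.hom_ext (by simpa [j] using congrArg (· ≫ pullback.fst _ _) e)
    (by simpa [j] using congrArg (· ≫ pullback.snd _ _) e)⟩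
  have e : pullback.diagonal f ≫ j = pullback.diagonal (f ≫ g) := by apply pullback.hom_ext <;> simp [j]
  have h1 : IsPullback (pullback.fst (pullback.diagonal f) s) (pullback.snd (pullback.diagonal f) s)
      (pullback.diagonal f ≫ j) (s ≫ j) := by
    refine IsPullback.of_isLimit' ⟨by rw [pullback.condition_assoc]⟩ (PullbackCone.IsLimit.mk _
      (fun c => pullback.lift c.fst c.snd ((cancel_mono j).1 (by simpa using c.condition))) ?_ ?_ ?_)
    · intro c; simp
    · intro c; simp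
    · intro c m h1 h2; apply pullback.hom_ext <;> simp [← h1, ← h2]
  rw [e] at h1
  exact qcHom_pullback h h1 hW

/-- graph of `f` as a base change of the diagonal of `g` -/
lemma qcHom_of_comp {f : X ⟶ Y} {g : Y ⟶ Z} (hg : IsQSHom g) (h : IsQCHom (f ≫ g)) : IsQCHom f := by
  let γ : X ⟶ pullback (f ≫ g) g := pullback.lift (𝟙 X) f (by simp)
  have h1 : IsPullback f γ (pullback.diagonal g)
      (pullback.map (f ≫ g) g g g f (𝟙 Y) (𝟙 Z) (by simp) (by simp)) := by
    refine IsPullback.of_isLimit' ⟨by apply pullback.hom_ext <;> simp [γ]⟩ ?_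
    refine PullbackCone.IsLimit.mk _ (fun c => c.snd ≫ pullback.fst _ _) (fun c => ?_) (fun c => ?_) (fun c m h1 h2 => ?_)
    · have := congrArg (· ≫ pullback.fst g g) c.condition
      simp at this
      simp [this]
    · have ha := congrArg (· ≫ pullback.fst g g) c.condition
      have hb := congrArg (· ≫ pullback.snd g g) c.condition
      simp at ha hb
      apply pullback.hom_ext <;> simp [γ, ← hb, ha]
    · simp [← h2, γ]
  have h2 : f = γ ≫ pullback.snd (f ≫ g) g := by simp [γ]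
  rw [h2]
  exact qcHom_comp (qcHom_baseChange hg h1) (qcHom_baseChange h (IsPullback.of_hasPullback (f ≫ g) g))

lemma cohHom_of_comp {f : X ⟶ Y} {g : Y ⟶ Z} (hg : IsQSHom g) (h : IsCohHom (f ≫ g)) : IsCohHom f :=
  ⟨qcHom_of_comp hg h.1, qsHom_of_comp h.2⟩

lemma qsHom_comp {f : X ⟶ Y} {g : Y ⟶ Z} (hf : IsQSHom f) (hg : IsQSHom g) : IsQSHom (f ≫ g) := by
  have h1 := isPullback_diagonal_map g f f
  have h2 : pullback.diagonal (f ≫ g) = pullback.diagonal f ≫
      (pullback.lift (pullback.fst f f) (pullback.snd f f) (by rw [pullback.condition_assoc]) :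
        pullback f f ⟶ pullback (f ≫ g) (f ≫ g)) := by
    apply pullback.hom_ext <;> simp
  show IsQCHom (pullback.diagonal (f ≫ g))
  rw [h2]
  exact qcHom_comp hf (qcHom_baseChange hg h1)

lemma isPullback_diagonal_baseChange {f : X ⟶ Y} {P Y' : Sh J} {p : P ⟶ X} {q : P ⟶ Y'} {g : Y' ⟶ Y}
    (h : IsPullback p q f g) : IsPullback p (pullback.diagonal q) (pullback.diagonal f)
      (pullback.map q q f f p p g h.w.symm h.w.symm) := by
  refine IsPullback.of_isLimit' ⟨by apply pullback.hom_ext <;> simp⟩ ?_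
  refine PullbackCone.IsLimit.mk _ (fun c => c.snd ≫ pullback.fst _ _) (fun c => ?_) (fun c => ?_) (fun c m h1 h2 => ?_)
  · have ha := congrArg (· ≫ pullback.fst f f) c.condition
    simp at ha
    simp [ha]
  · have ha := congrArg (· ≫ pullback.fst f f) c.condition
    have hb := congrArg (· ≫ pullback.snd f f) c.condition
    simp at ha hb
    apply pullback.hom_ext
    · simp
    · simp only [Category.assoc, pullback.diagonal_snd, Category.comp_id]
      exact h.hom_ext (by simp [← ha, ← hb]) (by simp [pullback.condition])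
  · simp [← h2]

lemma qsHom_baseChange {f : X ⟶ Y} (hf : IsQSHom f) {P Y' : Sh J} {p : P ⟶ X} {q : P ⟶ Y'} {g : Y' ⟶ Y}
    (h : IsPullback p q f g) : IsQSHom q :=
  qcHom_baseChange hf (isPullback_diagonal_baseChange h)

lemma isPullback_pairs_baseChange {f : X ⟶ Y} {P Y' : Sh J} {p : P ⟶ X} {q : P ⟶ Y'} {g : Y' ⟶ Y}
    (h : IsPullback p q f g) : IsPullback (pullback.fst q q ≫ q) (pullback.map q q f f p p g h.w.symm h.w.symm)
      g (pullback.fst f f ≫ f) := by
  refine IsPullback.of_isLimit' ⟨by simp [h.w]⟩ ?_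
  refine PullbackCone.IsLimit.mk _ (fun c => pullback.lift
    (h.lift (c.snd ≫ pullback.fst f f) c.fst (by simpa using c.condition.symm))
    (h.lift (c.snd ≫ pullback.snd f f) c.fst (by rw [Category.assoc, ← pullback.condition]; exact c.condition.symm))
    (by simp)) (fun c => ?_) (fun c => ?_) (fun c m h1 h2 => ?_)
  · simp
  · apply pullback.hom_ext <;> simp
  · apply pullback.hom_ext
    · exact h.hom_ext (by simp [← h2]) (by simp [← h1])
    · exact h.hom_ext (by simp [← h2]) (by simp [← h1, pullback.condition])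

lemma qsHom_local (hE : HasQCGenerators J) {f : X ⟶ Y} {ι : Type w} [Small.{u} ι] {Yi : ι → Sh J}
    {g : ∀ i, Yi i ⟶ Y} (hg : JE g) {P : ι → Sh J} {p : ∀ i, P i ⟶ X} {q : ∀ i, P i ⟶ Yi i}
    (hP : ∀ i, IsPullback (p i) (q i) f (g i)) (h : ∀ i, IsQSHom (q i)) : IsQSHom f :=
  qcHom_local hE (hg.pullback _ (fun i => isPullback_pairs_baseChange (hP i)))
    (fun i => isPullback_diagonal_baseChange (hP i)) h

lemma map_property (Q : ∀ {A B : Sh J}, (A ⟶ B) → Prop)
    (hc : ∀ {A B D : Sh J} {u : A ⟶ B} {v : B ⟶ D}, Q u → Q v → Q (u ≫ v))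
    (hb : ∀ {A B P B' : Sh J} {u : A ⟶ B} {p : P ⟶ A} {q : P ⟶ B'} {g : B' ⟶ B}, Q u → IsPullback p q u g → Q q)
    {X' Y' S : Sh J} {f : X ⟶ Y} {f' : X' ⟶ Y'} (a : Y ⟶ S) (a' : Y' ⟶ S) (hf : Q f) (hf' : Q f') :
    Q (pullback.map (f ≫ a) (f' ≫ a') a a' f f' (𝟙 S) (Category.comp_id _) (Category.comp_id _)) := by
  let m₁ : pullback (f ≫ a) (f' ≫ a') ⟶ pullback a (f' ≫ a') :=
    pullback.map _ _ _ _ f (𝟙 X') (𝟙 S) (by simp) (by simp)
  let m₂ : pullback a (f' ≫ a') ⟶ pullback a a' :=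
    pullback.map _ _ _ _ (𝟙 Y) f' (𝟙 S) (by simp) (by simp)
  have e : pullback.map (f ≫ a) (f' ≫ a') a a' f f' (𝟙 S) (Category.comp_id _) (Category.comp_id _) = m₁ ≫ m₂ := by
    apply pullback.hom_ext <;> simp [m₁, m₂]
  rw [e]
  refine hc (hb hf (p := pullback.fst (f ≫ a) (f' ≫ a')) (g := pullback.fst a (f' ≫ a')) ?_)
    (hb hf' (p := pullback.snd a (f' ≫ a')) (g := pullback.snd a a') ?_)
  · refine (IsPullback.of_right ?_ (by simp [m₁]) (IsPullback.of_hasPullback a (f' ≫ a')).flip).flip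
    simpa [m₁] using (IsPullback.of_hasPullback (f ≫ a) (f' ≫ a')).flip
  · refine (IsPullback.of_right ?_ (by simp [m₂]) (IsPullback.of_hasPullback a a')).flip
    simpa [m₂] using (IsPullback.of_hasPullback a (f' ≫ a'))

end Groth.Agent.QCTopos
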