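import Groth.Agent.QCTopos.Algebraic
import Mathlib.AlgebraicTopology.CechNerve

/-! # Finite sums of members of a generating family, and Čech nerves -/

set_option autoImplicit false
set_option linter.all false
set_option backward.isDefEq.respectTransparency false
set_option backward.defeqAttrib.useBackward true

universe w w' u

open CategoryTheory CategoryTheory.Limits Opposite

namespace Groth.Agent.QCTopos

open ToposFin Giraud

variable {C : Type u} [SmallCategory C] {J : GrothendieckTopology C}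

/-- finite sums of members of `S` -/
def IsSum (S : Set (Sh J)) (L : Sh J) : Prop :=
  ∃ (κ : Type u) (_ : Finite κ) (G : κ → Sh J) (inj : ∀ k, G k ⟶ L),
    (∀ k, G k ∈ S) ∧ Nonempty (IsColimit (Cofan.mk L inj))

lemma cofan_pullback' {ι : Type u} {F : ι → Sh J} {c : Cofan F} (hc : IsColimit c) {P : Sh J} (f : P ⟶ c.pt)
    {Q : ι → Sh J} {p : ∀ k, Q k ⟶ P} {q : ∀ k, Q k ⟶ F k} (h : ∀ k, IsPullback (p k) (q k) f (c.inj k)) :
    Nonempty (IsColimit (Cofan.mk P p)) := by
  refine (sheaf_cofan_isVanKampen c hc).isUniversal (Cofan.mk P p) (Discrete.natTrans (fun k => q k.as)) f ?_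
    (NatTrans.Equifibered.of_discrete _) ?_
  · exact NatTrans.ext (funext fun ⟨k⟩ => (h k).w.symm)
  · rintro ⟨k⟩
    exact h k

lemma isSum_of_iso {S : Set (Sh J)} {L L' : Sh J} (e : L ≅ L') (h : IsSum S L) : IsSum S L' := by
  obtain ⟨κ, hκ, G, inj, hG, ⟨hc⟩⟩ := h
  exact ⟨κ, hκ, G, fun k => inj k ≫ e.hom, hG,
    ⟨IsColimit.ofIsoColimit hc (Cofan.ext e (fun k => rfl))⟩⟩

lemma isSum_pullback {S : Set (Sh J)} (hpb : ClosedUnderPullbacks S) {L M k : Sh J} (hL : IsSum S L)
    (hM : IsSum S M) (hk : k ∈ S) (a : L ⟶ k) (b : M ⟶ k) : IsSum S (pullback a b) := by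
  obtain ⟨κ, hκ, G, inj, hG, ⟨hc⟩⟩ := hL
  obtain ⟨κ', hκ', H, inj', hH, ⟨hd⟩⟩ := hM
  choose R p q hR hR' using fun x : κ × κ' => hpb (inj x.1 ≫ a) (inj' x.2 ≫ b) (hG x.1) (hH x.2) hk
  let m : ∀ i, pullback (inj i ≫ a) b ⟶ pullback a b := fun i =>
    pullback.lift (pullback.fst _ _ ≫ inj i) (pullback.snd _ _) (by rw [Category.assoc, pullback.condition])
  have h1 : ∀ i, IsPullback (m i) (pullback.fst (inj i ≫ a) b) (pullback.fst a b) (inj i) := fun i => by
    refine IsPullback.of_right ?_ (pullback.lift_fst _ _ _) (IsPullback.of_hasPullback a b).flip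
    rw [pullback.lift_snd]
    exact (IsPullback.of_hasPullback _ _).flip
  let r : ∀ x : κ × κ', R x ⟶ pullback (inj x.1 ≫ a) b := fun x =>
    pullback.lift (p x) (q x ≫ inj' x.2) (by rw [(hR' x).w, Category.assoc])
  have h2 : ∀ i j, IsPullback (r (i, j)) (q (i, j)) (pullback.snd (inj i ≫ a) b) (inj' j) := fun i j => by
    refine IsPullback.of_right ?_ (pullback.lift_snd _ _ _) (IsPullback.of_hasPullback (inj i ≫ a) b)
    rw [pullback.lift_fst]
    exact hR' (i, j)
  obtain ⟨hP⟩ := cofan_pullback' hc (pullback.fst a b) h1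
  have hQ := fun i => cofan_pullback' hd (pullback.snd (inj i ≫ a) b) (h2 i)
  refine ⟨κ × κ', inferInstance, R, fun x => r x ≫ m x.1, hR, ⟨mkCofanColimit _
    (fun t => Cofan.IsColimit.desc hP (fun i => Cofan.IsColimit.desc (hQ i).some (fun j => t.inj (i, j))))
    (fun t x => ?_) (fun t g hg => ?_)⟩⟩
  · show (r x ≫ m x.1) ≫ _ = _
    rw [Category.assoc]
    exact (congrArg (r x ≫ ·) (Cofan.IsColimit.fac hP _ x.1)).trans (Cofan.IsColimit.fac (hQ x.1).some _ x.2)
  · refine Cofan.IsColimit.hom_ext hP _ _ (fun i => Cofan.IsColimit.hom_ext (hQ i).some _ _ (fun j => ?_))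
    refine Eq.trans ?_ (congrArg (r (i, j) ≫ ·) (Cofan.IsColimit.fac hP _ i)).symm
    refine Eq.trans ?_ (Cofan.IsColimit.fac (hQ i).some _ j).symm
    exact (Category.assoc _ _ _).symm.trans (hg (i, j))

lemma isPullback_wide {k' k : Sh J} (f : k' ⟶ k) (n : ℕ) :
    IsPullback
      (WidePullback.lift (WidePullback.base (fun _ : Fin (n + 2) => f))
        (fun i : Fin (n + 1) => WidePullback.π (fun _ : Fin (n + 2) => f) i.castSucc)
        (fun i => WidePullback.π_arrow _ _) :
        widePullback k (fun _ : Fin (n + 2) => k') (fun _ => f) ⟶ widePullback k (fun _ : Fin (n + 1) => k') (fun _ => f))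
      (WidePullback.π (fun _ : Fin (n + 2) => f) (Fin.last (n + 1)))
      (WidePullback.base (fun _ : Fin (n + 1) => f)) f := by
  refine IsPullback.of_isLimit' ⟨by rw [WidePullback.lift_base, WidePullback.π_arrow]⟩ ?_
  refine PullbackCone.IsLimit.mk _ (fun t => WidePullback.lift (t.fst ≫ WidePullback.base _)
    (Fin.lastCases t.snd (fun i => t.fst ≫ WidePullback.π _ i)) ?_) (fun t => ?_) (fun t => ?_) (fun t m h1 h2 => ?_)
  · intro i
    refine Fin.lastCases ?_ (fun i => ?_) i
    · rw [Fin.lastCases_last]; exact t.condition.symm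
    · rw [Fin.lastCases_castSucc, Category.assoc, WidePullback.π_arrow]
  · apply WidePullback.hom_ext (fun _ : Fin (n + 1) => f)
    · intro i; simp [Fin.lastCases_castSucc]
    · simp
  · simp [Fin.lastCases_last]
  · apply WidePullback.hom_ext (fun _ : Fin (n + 2) => f)
    · intro i
      refine Fin.lastCases ?_ (fun i => ?_) i
      · simp [Fin.lastCases_last, ← h2]
      · simp [Fin.lastCases_castSucc, ← h1]
    · simp [← h1]

lemma isSum_widePullback {S : Set (Sh J)} (hpb : ClosedUnderPullbacks S) {k' k : Sh J} (f : k' ⟶ k)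
    (hk' : IsSum S k') (hk : k ∈ S) (n : ℕ) :
    IsSum S (widePullback k (fun _ : Fin (n + 1) => k') (fun _ => f)) := by
  induction n with
  | zero =>
    refine isSum_of_iso ?_ hk'
    exact
      { hom := WidePullback.lift f (fun _ => 𝟙 k') (fun _ => Category.id_comp _)
        inv := WidePullback.π _ 0
        hom_inv_id := WidePullback.lift_π _ _ _ _ _
        inv_hom_id := by
          apply WidePullback.hom_ext (fun _ : Fin 1 => f)
          · intro i
            obtain rfl : i = (0 : Fin 1) := Subsingleton.elim _ _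
            simp
          · simp }
  | succ n ih => exact isSum_of_iso (isPullback_wide f n).isoPullback.symm (isSum_pullback hpb ih hk' hk _ _)

lemma exists_sum_refine {S : Set (Sh J)} (hgen : IsGenerating S) {k' k : Sh J} (hk : IsQC k) (f : k' ⟶ k) [Epi f] :
    ∃ (L : Sh J) (_ : IsSum S L) (l : L ⟶ k'), Epi (l ≫ f) := by
  obtain ⟨ι, F, π, hF, hπ⟩ := hgen k'
  have hπ' : JE (fun i => π i ≫ f) := fun Z a b e => (cancel_epi f).1 (hπ _ _ _ (fun i => by simpa using e i))
  obtain ⟨s, hs⟩ := qc_finite hk hπ'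
  refine ⟨∐ fun i : s => F i.1, ⟨s, inferInstance, _, Sigma.ι _, fun i => hF i.1, ⟨coproductIsCoproduct _⟩⟩,
    Sigma.desc (fun i : s => π i.1), ⟨fun a b e => hs _ _ _ (fun i => ?_)⟩⟩
  simpa using congrArg (Sigma.ι (fun i : s => F i.1) i ≫ ·) e

lemma isQC_of_isSum {S : Set (Sh J)} (hqc : ∀ K ∈ S, IsQC K) {L : Sh J} (h : IsSum S L) : IsQC L := by
  obtain ⟨κ, hκ, G, inj, hG, ⟨hc⟩⟩ := h
  exact isQC_of_finite_cover (je_of_isColimit hc) (fun k => hqc _ (hG k))

lemma isCoherent_of_isSum {S : Set (Sh J)} (hgen : IsGenerating S) (hqc : ∀ K ∈ S, IsQC K)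
    (hpb : ClosedUnderPullbacks S) {L : Sh J} (h : IsSum S L) : IsCoherent L := by
  refine ⟨isQC_of_isSum hqc h, ?_⟩
  obtain ⟨κ, hκ, G, inj, hG, ⟨hc⟩⟩ := h
  exact (cofan_isQS_iff hc).2 (fun k => (coherent_member hgen hqc hpb (hG k)).2)

end Groth.Agent.QCTopos
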