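import Groth.Agent.QCTopos.Coprod

/-! # Quasi-separated objects, covers, and the site -/

set_option autoImplicit false
set_option linter.all false
set_option backward.isDefEq.respectTransparency false
set_option backward.defeqAttrib.useBackward true

universe w w' u

open CategoryTheory CategoryTheory.Limits Opposite

namespace Groth.Agent.QCTopos

open ToposFin Giraud

variable {C : Type u} [SmallCategory C] {J : GrothendieckTopology C} {X Y Z : Sh J}

lemma eps_sieve_covering {c : C} {S : Sieve c}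
    (h : JE (fun k : Σ c' : C, {g : c' ⟶ c // S g} => freeMap J k.2.1)) : S ∈ J c := by
  obtain ⟨R, hR, hR'⟩ := h.exists_cover (𝟙 _)
  refine J.transitive hR S (fun c' g hg => ?_)
  obtain ⟨⟨c'', u, hu⟩, l, hl⟩ := hR' g hg
  rw [Category.comp_id] at hl
  obtain ⟨R₁, hR₁, h₁⟩ := free_local J l
  refine J.transitive hR₁ _ (fun d k hk => ?_)
  obtain ⟨v, hv⟩ := h₁ k hk
  have e : freeMap J (v ≫ u) = freeMap J (k ≫ g) := by
    refine ((yoneda ⋙ presheafToSheaf J (Type u)).map_comp v u).trans ?_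
    refine Eq.trans ?_ ((yoneda ⋙ presheafToSheaf J (Type u)).map_comp k g).symm
    show freeMap J v ≫ freeMap J u = freeMap J k ≫ freeMap J g
    rw [← hv, Category.assoc, hl]
  obtain ⟨R₂, hR₂, h₂⟩ := free_eq_local J e
  refine J.superset_covering ?_ hR₂
  intro d' m hm
  show S ((m ≫ k) ≫ g)
  rw [Category.assoc, ← h₂ m hm, ← Category.assoc]
  exact S.downward_closed hu _

lemma isQCSite_iff (c : C) : IsQCSite J c ↔ IsQC (freeSheaf (K := J) c) := by
  constructor
  · intro h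
    refine isQC_of_je (fun ι F π hπ => ?_)
    obtain ⟨R, hR, hR'⟩ := hπ.exists_cover (𝟙 _)
    obtain ⟨n, V, g, hg, hcov⟩ := h R hR
    have hi : ∀ k, ∃ i, ∃ l : freeSheaf (K := J) (V k) ⟶ F i, l ≫ π i = freeMap J (g k) := fun k => by
      obtain ⟨i, l, hl⟩ := hR' (g k) (hg k)
      exact ⟨i, l, hl.trans (Category.comp_id _)⟩
    choose i l hl using hi
    classical
    refine ⟨Finset.univ.image i, (je_of_cov (free_cover J hcov)).of_factor ?_⟩
    rintro ⟨c', u, hu⟩
    obtain ⟨k, a, rfl⟩ := (Sieve.mem_ofArrows_iff _ _ u).1 hu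
    refine ⟨⟨i k, Finset.mem_image_of_mem _ (Finset.mem_univ k)⟩, freeMap J a ≫ l k, ?_⟩
    rw [Category.assoc, hl]
    exact ((yoneda ⋙ presheafToSheaf J (Type u)).map_comp a (g k)).symm
  · intro h S hS
    obtain ⟨s, hs⟩ := qc_finite h (je_of_cov (free_cover J hS))
    let e := s.equivFin.symm
    refine ⟨s.card, fun k => (e k).1.1, fun k => (e k).1.2.1, fun k => (e k).1.2.2, eps_sieve_covering (hs.of_factor ?_)⟩
    intro x
    refine ⟨⟨x.1.1, x.1.2.1, ?_⟩, 𝟙 _, Category.id_comp _⟩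
    obtain ⟨k, rfl⟩ := e.surjective x
    exact Sieve.ofArrows_mk _ _ k

lemma isQS_of_cover {ι : Type u} {Yi : ι → Sh J} {g : ∀ i, Yi i ⟶ Y} (hg : JE g) (hqs : ∀ i, IsQS (Yi i))
    (hqc : ∀ i, IsQCHom (g i)) : IsQS Y := by
  intro A B a b hA hB
  have hcov : JE (fun i => pullback.fst a (g i)) := hg.pullback_fst a
  obtain ⟨s, hs⟩ := qc_finite hA hcov
  refine isQC_pullback_of_cover a b hs (fun i => ?_)
  have h1 := (IsPullback.of_hasPullback (pullback.snd a (g i.1)) (pullback.fst (g i.1) b)).paste_vert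
    (IsPullback.of_hasPullback (g i.1) b)
  rw [← pullback.condition] at h1
  exact isQC_of_iso h1.isoPullback (hqs i.1 _ _ _ _ (isQC_pullback_symm (hqc i.1 A a hA)) (hqc i.1 B b hB))

lemma qcHom_of_pairwise (hE : HasQCGenerators J) {ι : Type u} {Yi : ι → Sh J} {g : ∀ i, Yi i ⟶ Y} (hg : JE g)
    (hY : ∀ i, IsCoherent (Yi i)) (h : ∀ i j, IsQC (pullback (g i) (g j))) (i : ι) : IsQCHom (g i) :=
  qcHom_local hE hg (fun j => IsPullback.of_hasPullback (g i) (g j))
    (fun j => qcHom_of_isQS (hY j).2 (h i j) _)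

lemma qsHom_of_pairs (hE : HasQCGenerators J) (f : X ⟶ Y) {ι : Type u} {Xi : ι → Sh J} {g : ∀ i, Xi i ⟶ X}
    (hg : JE g) (h : ∀ i j, IsQCHom
      (pullback.lift (pullback.fst (g i) (g j)) (pullback.snd (g i) (g j)) (by rw [pullback.condition_assoc]) :
        pullback (g i) (g j) ⟶ pullback (g i ≫ f) (g j ≫ f))) : IsQSHom f := by
  refine qcHom_local hE (ι := ι × ι)
    (g := fun x => pullback.map (g x.1 ≫ f) (g x.2 ≫ f) f f (g x.1) (g x.2) (𝟙 Y) (by simp) (by simp)) ?_
    (fun x => isPullback_diagonal_map f (g x.1) (g x.2)) (fun x => h x.1 x.2)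
  have h1 : JE (fun i => pullback.snd (g i) (pullback.fst f f)) := hg.pullback_snd _
  have h2 : ∀ i, JE (fun j => pullback.snd (g j) (pullback.snd (g i) (pullback.fst f f) ≫ pullback.snd f f)) :=
    fun i => hg.pullback_snd _
  refine (h1.trans h2).of_factor (fun p => ⟨(p.1, p.2), pullback.lift (pullback.snd _ _ ≫ pullback.fst _ _)
    (pullback.fst _ _) ?_, ?_⟩)
  · simp only [Category.assoc]
    rw [pullback.condition_assoc (f := g p.2), pullback.condition_assoc (f := g p.1), Category.assoc,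
      pullback.condition (f := f)]
  · apply pullback.hom_ext
    · simp [pullback.condition (f := g p.1)]
    · simp [pullback.condition (f := g p.2)]

lemma qsHom_of_source_cover (hE : HasQCGenerators J) (g : Y ⟶ Z) {ι : Type u} {X : ι → Sh J} {f : ∀ i, X i ⟶ Y}
    (hf : JE f) (hqc : ∀ i, IsQCHom (f i)) (hqs : ∀ i, IsQSHom (f i ≫ g)) : IsQSHom g := by
  refine qsHom_of_pairs hE g hf (fun i j => qcHom_of_comp (g := pullback.snd (f i ≫ g) (f j ≫ g)) ?_ ?_)
  · exact qsHom_baseChange (hqs i) (IsPullback.of_hasPullback _ _)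
  · rw [pullback.lift_snd]
    exact qcHom_baseChange (hqc i) (IsPullback.of_hasPullback _ _)

lemma qsHom_of_qs_pairs (hE : HasQCGenerators J) (f : X ⟶ Y) {ι : Type u} {Xi : ι → Sh J} {g : ∀ i, Xi i ⟶ X}
    (hg : JE g) (hqc : ∀ i, IsQC (Xi i)) (hqs : ∀ i j, IsQS (pullback (g i ≫ f) (g j ≫ f))) (hX : IsQS X) :
    IsQSHom f :=
  qsHom_of_pairs hE f hg (fun i j => qcHom_of_isQS (hqs i j) (hX _ _ _ _ (hqc i) (hqc j)) _)

end Groth.Agent.QCTopos
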