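import Groth.Agent.QCTopos.Filtered

/-! # Coequalizers of coherent objects and objects of finite presentation -/

set_option autoImplicit false
set_option linter.all false
set_option backward.isDefEq.respectTransparency false
set_option backward.defeqAttrib.useBackward true

universe w w' u

open CategoryTheory CategoryTheory.Limits Opposite

namespace Groth.Agent.QCTopos

open ToposFin Giraud

variable {C : Type u} [SmallCategory C] {J : GrothendieckTopology C} {X : Sh J}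

lemma coherent_of_retract {Y : Sh J} (i : X ⟶ Y) (p : Y ⟶ X) (h : i ≫ p = 𝟙 X) (hY : IsCoherent Y) :
    IsCoherent X := by
  haveI : Mono i := (SplitMono.mk p h).mono
  haveI : Epi p := (SplitEpi.mk i h).epi
  exact ⟨isQC_of_epi p hY.1, isQS_of_qsHom (qsHom_of_mono i) hY.2⟩

lemma coherent_sigma {ι : Type u} [Finite ι] (G : ι → Sh J) (h : ∀ i, IsCoherent (G i)) : IsCoherent (∐ G) :=
  ⟨isQC_of_finite_cover (je_of_isColimit (c := Cofan.mk (∐ G) (Sigma.ι G)) (coproductIsCoproduct G)) (fun i => (h i).1),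
    (cofan_isQS_iff (c := Cofan.mk (∐ G) (Sigma.ι G)) (coproductIsCoproduct G)).2 (fun i => (h i).2)⟩

lemma isFP_of_retract {Y : Sh J} (i : X ⟶ Y) (p : Y ⟶ X) (h : i ≫ p = 𝟙 X) (hY : IsFP Y) : IsFP X := by
  intro I _ _ D
  refine ⟨fun x y e => ?_, fun φ => ?_⟩
  · obtain ⟨k, a, rfl⟩ := Types.jointly_surjective' x
    obtain ⟨l, b, rfl⟩ := Types.jointly_surjective' y
    rw [post_ι, post_ι] at e
    have := (hY I D).1 (a₁ := colimit.ι (D ⋙ coyoneda.obj (op Y)) k (p ≫ a))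
      (a₂ := colimit.ι (D ⋙ coyoneda.obj (op Y)) l (p ≫ b)) (by rw [post_ι, post_ι, Category.assoc, Category.assoc, e])
    obtain ⟨m, f, g, hm⟩ := (Types.FilteredColimit.colimit_eq_iff (D ⋙ coyoneda.obj (op Y))).1 this
    refine (Types.FilteredColimit.colimit_eq_iff (D ⋙ coyoneda.obj (op X))).2 ⟨m, f, g, ?_⟩
    have hm' : (p ≫ a) ≫ D.map f = (p ≫ b) ≫ D.map g := hm
    show a ≫ D.map f = b ≫ D.map g
    simpa [reassoc_of% h] using congrArg (i ≫ ·) hm'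
  · obtain ⟨z, hz⟩ := (hY I D).2 (p ≫ φ)
    obtain ⟨k, a, rfl⟩ := Types.jointly_surjective' z
    rw [post_ι] at hz
    refine ⟨colimit.ι (D ⋙ coyoneda.obj (op X)) k (i ≫ a), ?_⟩
    rw [post_ι, Category.assoc, hz, reassoc_of% h]

lemma isFP_coequalizer (hE : HasQCGenerators J) {X₀ X₁ : Sh J} (a b : X₁ ⟶ X₀) (h₀ : IsCoherent X₀)
    (h₁ : IsQC X₁) : IsFP (coequalizer a b) := by
  intro I _ _ D
  refine ⟨qc_post_injective (isQC_of_epi (coequalizer.π a b) h₀.1), fun φ => ?_⟩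
  obtain ⟨i, ψ, hψ⟩ := coherent_exists_factor (colimit.isColimit D) hE h₀ (coequalizer.π a b ≫ φ)
  obtain ⟨k, f, hf⟩ := qc_eventually_eq (colimit.isColimit D) h₁ (a := a ≫ ψ) (b := b ≫ ψ)
    (by rw [Category.assoc, Category.assoc, hψ, coequalizer.condition_assoc])
  refine ⟨colimit.ι (D ⋙ coyoneda.obj (op _)) k (coequalizer.desc (ψ ≫ D.map f) (by simpa using hf)), ?_⟩
  rw [post_ι]
  refine coequalizer.hom_ext ?_
  rw [coequalizer.π_desc_assoc, Category.assoc, colimit.w]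
  exact hψ

section Presentation

variable {ι : Type u} {G : ι → Sh J} (π : ∀ i, G i ⟶ X) {κ : ι × ι → Type u} {W : ∀ x, κ x → Sh J}
  (ρ : ∀ x k, W x k ⟶ pullback (π x.1) (π x.2))

/-- finite parts of a presentation -/
abbrev PIdx (κ : ι × ι → Type u) :=
  {p : Finset ι × Finset (Σ x : ι × ι, κ x) // ∀ r ∈ p.2, r.1.1 ∈ p.1 ∧ r.1.2 ∈ p.1}

noncomputable def gens (p : PIdx κ) : Sh J := ∐ fun i : p.1.1 => G i.1

noncomputable def rels (p : PIdx κ) : Sh J := ∐ fun r : p.1.2 => W r.1.1 r.1.2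

noncomputable def relL (p : PIdx κ) : rels (W := W) p ⟶ gens (G := G) p :=
  Sigma.desc (fun r : p.1.2 => ρ r.1.1 r.1.2 ≫ pullback.fst _ _ ≫
    Sigma.ι (fun i : p.1.1 => G i.1) ⟨r.1.1.1, (p.2 r.1 r.2).1⟩)

noncomputable def relR (p : PIdx κ) : rels (W := W) p ⟶ gens (G := G) p :=
  Sigma.desc (fun r : p.1.2 => ρ r.1.1 r.1.2 ≫ pullback.snd _ _ ≫
    Sigma.ι (fun i : p.1.1 => G i.1) ⟨r.1.1.2, (p.2 r.1 r.2).2⟩)

noncomputable def part (p : PIdx κ) : Sh J := coequalizer (relL π ρ p) (relR π ρ p)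

noncomputable def partι (p : PIdx κ) (i : ι) (h : i ∈ p.1.1) : G i ⟶ part π ρ p :=
  Sigma.ι (fun i : p.1.1 => G i.1) ⟨i, h⟩ ≫ coequalizer.π _ _

lemma part_condition (p : PIdx κ) (r : Σ x : ι × ι, κ x) (hr : r ∈ p.1.2) :
    ρ r.1 r.2 ≫ pullback.fst _ _ ≫ partι π ρ p r.1.1 (p.2 r hr).1 =
      ρ r.1 r.2 ≫ pullback.snd _ _ ≫ partι π ρ p r.1.2 (p.2 r hr).2 := by
  simpa [relL, relR, partι] using
    congrArg (Sigma.ι (fun r : p.1.2 => W r.1.1 r.1.2) ⟨r, hr⟩ ≫ ·) (coequalizer.condition (relL π ρ p) (relR π ρ p))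

lemma part_ext {p : PIdx κ} {Z : Sh J} {a b : part π ρ p ⟶ Z}
    (h : ∀ i hi, partι π ρ p i hi ≫ a = partι π ρ p i hi ≫ b) : a = b :=
  coequalizer.hom_ext (Sigma.hom_ext _ _ (fun i => by simpa [partι] using h i.1 i.2))

lemma exists_partDesc (p : PIdx κ) {Z : Sh J} (f : ∀ i, i ∈ p.1.1 → (G i ⟶ Z))
    (h : ∀ r (hr : r ∈ p.1.2), ρ r.1 r.2 ≫ pullback.fst _ _ ≫ f r.1.1 (p.2 r hr).1 =
      ρ r.1 r.2 ≫ pullback.snd _ _ ≫ f r.1.2 (p.2 r hr).2) :
    ∃ d : part π ρ p ⟶ Z, ∀ i hi, partι π ρ p i hi ≫ d = f i hi := by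
  refine ⟨coequalizer.desc (Sigma.desc (fun i : p.1.1 => f i.1 i.2)) (Sigma.hom_ext _ _ (fun r => ?_)), fun i hi => ?_⟩
  · simpa [relL, relR] using h r.1 r.2
  · simp [partι]

noncomputable def partMap {p q : PIdx κ} (h : p ≤ q) : part π ρ p ⟶ part π ρ q :=
  (exists_partDesc π ρ p (fun i hi => partι π ρ q i (h.1 hi)) (fun r hr => part_condition π ρ q r (h.2 hr))).choose

lemma partι_map {p q : PIdx κ} (h : p ≤ q) (i : ι) (hi : i ∈ p.1.1) :
    partι π ρ p i hi ≫ partMap π ρ h = partι π ρ q i (h.1 hi) :=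
  (exists_partDesc π ρ p (fun i hi => partι π ρ q i (h.1 hi)) (fun r hr => part_condition π ρ q r (h.2 hr))).choose_spec i hi

noncomputable def partDiagram : PIdx κ ⥤ Sh J where
  obj p := part π ρ p
  map h := partMap π ρ (leOfHom h)
  map_id p := part_ext π ρ (fun i hi => by rw [partι_map, Category.comp_id])
  map_comp f g := part_ext π ρ (fun i hi => by rw [partι_map, ← Category.assoc, partι_map, partι_map])

lemma isFiltered_pidx [DecidableEq ι] [DecidableEq (Σ x : ι × ι, κ x)] : IsFiltered (PIdx κ) := by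
  haveI : Nonempty (PIdx κ) := ⟨⟨(∅, ∅), by simp⟩⟩
  haveI : IsDirected (PIdx κ) (· ≤ ·) := ⟨fun p q => ⟨⟨(p.1.1 ∪ q.1.1, p.1.2 ∪ q.1.2), fun r hr => by
    rcases Finset.mem_union.1 hr with h | h
    · exact ⟨Finset.mem_union_left _ (p.2 r h).1, Finset.mem_union_left _ (p.2 r h).2⟩
    · exact ⟨Finset.mem_union_right _ (q.2 r h).1, Finset.mem_union_right _ (q.2 r h).2⟩⟩,
    ⟨Finset.subset_union_left, Finset.subset_union_left⟩, ⟨Finset.subset_union_right, Finset.subset_union_right⟩⟩⟩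
  exact isFiltered_of_directed_le_nonempty _

lemma coherent_parts (hG : ∀ i, IsCoherent (G i)) (hW : ∀ x k, IsCoherent (W x k)) (p : PIdx κ) :
    IsCoherent (gens (G := G) p) ∧ IsCoherent (rels (W := W) p) :=
  ⟨coherent_sigma _ (fun i => hG i.1), coherent_sigma _ (fun r => hW _ r.1.2)⟩

variable (hπ : JE π) (hρ : ∀ x, JE (ρ x))

include hπ hρ in
lemma nonempty_iso_colimit : Nonempty (X ≅ colimit (partDiagram π ρ)) := by
  classical
  let D := partDiagram π ρ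
  have hex : ∀ p : PIdx κ, ∃ d : part π ρ p ⟶ X, ∀ i hi, partι π ρ p i hi ≫ d = π i := fun p =>
    exists_partDesc π ρ p (fun i _ => π i) (fun r hr => by rw [pullback.condition])
  choose τ hτ using hex
  let t : Cocone D :=
    { pt := X
      ι :=
        { app := fun p => τ p
          naturality := fun p q f => part_ext π ρ (fun i hi => by
            show partι π ρ p i hi ≫ partMap π ρ (leOfHom f) ≫ τ q = partι π ρ p i hi ≫ τ p ≫ 𝟙 X
            rw [← Category.assoc, partι_map, hτ, Category.comp_id, hτ]) } }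
  let sgl : ι → PIdx κ := fun i => ⟨({i}, ∅), by simp⟩
  let θ₀ : ∀ i, G i ⟶ colimit D := fun i =>
    partι π ρ (sgl i) i (Finset.mem_singleton_self i) ≫ colimit.ι D (sgl i)
  have hθ₀ : ∀ p i (hi : i ∈ p.1.1), partι π ρ p i hi ≫ colimit.ι D p = θ₀ i := fun p i hi => by
    have hle : sgl i ≤ p := ⟨Finset.singleton_subset_iff.2 hi, Finset.empty_subset _⟩
    show _ = partι π ρ (sgl i) i _ ≫ colimit.ι D (sgl i)
    rw [← colimit.w D (homOfLE hle)]
    exact ((reassoc_of% (partι_map π ρ hle i (Finset.mem_singleton_self i))) _).symm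
  obtain ⟨θ, hθ⟩ := (sheafAxioms J).exists_desc hπ.cov θ₀ (fun i j k a b hab => by
    have key : pullback.fst (π i) (π j) ≫ θ₀ i = pullback.snd (π i) (π j) ≫ θ₀ j :=
      hρ (i, j) _ _ _ (fun m => by
        let p : PIdx κ := ⟨({i, j}, {⟨(i, j), m⟩}), by simp⟩
        rw [← hθ₀ p i (by simp [p]), ← hθ₀ p j (by simp [p])]
        simpa only [Category.assoc] using congrArg (· ≫ colimit.ι D p)
          (part_condition π ρ p ⟨(i, j), m⟩ (Finset.mem_singleton_self _)))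
    have := congrArg (pullback.lift a b hab ≫ ·) key
    simpa using this)
  refine ⟨⟨θ, colimit.desc D t, hπ _ _ _ (fun i => ?_), colimit.hom_ext (fun p => part_ext π ρ (fun i hi => ?_))⟩⟩
  · rw [reassoc_of% (hθ i), Category.comp_id]
    show (partι π ρ (sgl i) i _ ≫ colimit.ι D (sgl i)) ≫ colimit.desc D t = π i
    rw [Category.assoc, colimit.ι_desc]
    exact hτ _ _ _
  · rw [Category.comp_id, colimit.ι_desc_assoc, hθ₀ p i hi]
    show partι π ρ p i hi ≫ τ p ≫ θ = θ₀ i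
    rw [reassoc_of% (hτ p i hi), hθ]

end Presentation

lemma exists_presentation (hE : HasCoherentGenerators J) (X : Sh J) :
    ∃ (I : Type u) (_ : SmallCategory I) (_ : IsFiltered I) (D : I ⥤ Sh J),
      (∀ p, ∃ (X₀ X₁ : Sh J) (a b : X₁ ⟶ X₀), IsCoherent X₀ ∧ IsCoherent X₁ ∧ Nonempty (D.obj p ≅ coequalizer a b)) ∧
      Nonempty (X ≅ colimit D) := by
  classical
  obtain ⟨ι, G, π, hG, hπ⟩ := hE X
  choose κ W ρ hW hρ using fun x : ι × ι => hE (pullback (π x.1) (π x.2))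
  exact ⟨PIdx κ, inferInstance, isFiltered_pidx, partDiagram π ρ,
    fun p => ⟨_, _, relL π ρ p, relR π ρ p, (coherent_parts hG hW p).1, (coherent_parts hG hW p).2, ⟨Iso.refl _⟩⟩,
    nonempty_iso_colimit π ρ ((epi_desc_iff π).1 hπ) (fun x => (epi_desc_iff (ρ x)).1 (hρ x))⟩

lemma isFP_iff_retract (hE : HasCoherentGenerators J) (X : Sh J) :
    IsFP X ↔ ∃ (X₀ X₁ : Sh J) (a b : X₁ ⟶ X₀) (i : X ⟶ coequalizer a b) (p : coequalizer a b ⟶ X),
      IsCoherent X₀ ∧ IsCoherent X₁ ∧ i ≫ p = 𝟙 X := by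
  refine ⟨fun h => ?_, fun ⟨X₀, X₁, a, b, i, p, h₀, h₁, e⟩ =>
    isFP_of_retract i p e (isFP_coequalizer (hasQC_of_coherent hE) a b h₀ h₁.1)⟩
  obtain ⟨I, _, _, D, hD, ⟨e⟩⟩ := exists_presentation hE X
  obtain ⟨z, hz⟩ := (h I D).2 e.hom
  obtain ⟨k, s, rfl⟩ := Types.jointly_surjective' z
  rw [post_ι] at hz
  obtain ⟨X₀, X₁, a, b, h₀, h₁, ⟨q⟩⟩ := hD k
  refine ⟨X₀, X₁, a, b, s ≫ q.hom, q.inv ≫ colimit.ι D k ≫ e.inv, h₀, h₁, ?_⟩
  rw [Category.assoc, Iso.hom_inv_id_assoc, reassoc_of% hz, Iso.hom_inv_id]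

lemma coherent_coequalizer_iff (hE : HasCoherentGenerators J) :
    (∀ (X₀ X₁ : Sh J) (a b : X₁ ⟶ X₀), IsCoherent X₀ → IsCoherent X₁ → IsCoherent (coequalizer a b)) ↔
      (∀ X : Sh J, IsFP X → IsCoherent X) := by
  refine ⟨fun h X hX => ?_, fun h X₀ X₁ a b h₀ h₁ => h _ (isFP_coequalizer (hasQC_of_coherent hE) a b h₀ h₁.1)⟩
  obtain ⟨X₀, X₁, a, b, i, p, h₀, h₁, e⟩ := (isFP_iff_retract hE X).1 hX
  exact coherent_of_retract i p e (h _ _ a b h₀ h₁)

lemma filteredColimit_coherent_iff (hE : HasCoherentGenerators J) :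
    (∀ X : Sh J, ∃ (I : Type u) (_ : SmallCategory I) (_ : IsFiltered I) (D : I ⥤ Sh J),
        (∀ i, IsCoherent (D.obj i)) ∧ Nonempty (X ≅ colimit D)) ↔
      (∀ X : Sh J, IsFP X → IsCoherent X) := by
  refine ⟨fun h X hX => ?_, fun h X => ?_⟩
  · obtain ⟨I, _, _, D, hD, ⟨e⟩⟩ := h X
    obtain ⟨z, hz⟩ := (hX I D).2 e.hom
    obtain ⟨k, s, rfl⟩ := Types.jointly_surjective' z
    rw [post_ι] at hz
    exact coherent_of_retract s (colimit.ι D k ≫ e.inv) (by rw [reassoc_of% hz, Iso.hom_inv_id]) (hD k)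
  · obtain ⟨I, hI, hI', D, hD, he⟩ := exists_presentation hE X
    refine ⟨I, hI, hI', D, fun k => ?_, he⟩
    obtain ⟨X₀, X₁, a, b, h₀, h₁, ⟨q⟩⟩ := hD k
    exact coherent_of_retract q.hom q.inv q.hom_inv_id ((coherent_coequalizer_iff hE).2 h _ _ a b h₀ h₁)

end Groth.Agent.QCTopos

namespace Groth.Agent.QCTopos

open ToposFin Giraud

variable {C : Type u} [SmallCategory C] {J : GrothendieckTopology C}

lemma coproduct_mem {S : Set (Sh J)} (hiso : ∀ ⦃K L : Sh J⦄, K ∈ S → Nonempty (K ≅ L) → L ∈ S)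
    (hcolim : ∀ (K : Type) [SmallCategory K] [FinCategory K] (D : K ⥤ Sh J), (∀ k, D.obj k ∈ S) → colimit D ∈ S)
    {κ : Type u} [Finite κ] (G : κ → Sh J) (h : ∀ k, G k ∈ S) : (∐ G) ∈ S := by
  obtain ⟨n, ⟨e⟩⟩ := Finite.exists_equiv_fin κ
  refine hiso (hcolim (Discrete (Fin n)) (Discrete.functor (fun k => G (e.symm k))) (fun k => h _))
    ⟨Sigma.whiskerEquiv e.symm (fun k => Iso.refl _)⟩

lemma mem_iff_coherent {S : Set (Sh J)} (hqc : ∀ K ∈ S, IsQC K)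
    (hiso : ∀ ⦃K L : Sh J⦄, K ∈ S → Nonempty (K ≅ L) → L ∈ S)
    (hgen : ∀ X : Sh J, ∃ (ι : Type u) (a : ι → S) (π : ∀ i, (a i).1 ⟶ X), Epi (Sigma.desc π))
    (hcoh : ∀ K ∈ S, IsCoherent K)
    (hcolim : ∀ (K : Type) [SmallCategory K] [FinCategory K] (D : K ⥤ Sh J), (∀ k, D.obj k ∈ S) → colimit D ∈ S)
    (X : Sh J) : X ∈ S ↔ IsCoherent X := by
  classical
  refine ⟨hcoh X, fun h => ?_⟩
  obtain ⟨ι, hι, G, π, hπ⟩ := qc_fin_cover h.1 (hgen X)
  have hpair : ∀ x : ι × ι, ∃ (κ : Type u) (_ : Finite κ) (W : κ → S)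
      (ρ : ∀ k, (W k).1 ⟶ pullback (π x.1) (π x.2)), JE ρ :=
    fun x => qc_fin_cover (h.2 _ _ _ _ (hqc _ (G x.1).2) (hqc _ (G x.2).2)) (hgen _)
  choose κ hκ W ρ hρ using hpair
  haveI := Fintype.ofFinite ι
  haveI : Fintype (Σ x : ι × ι, κ x) := Fintype.ofFinite _
  haveI := isFiltered_pidx (κ := κ)
  let top : PIdx κ := ⟨(Finset.univ, Finset.univ), fun r _ => ⟨Finset.mem_univ _, Finset.mem_univ _⟩⟩
  have hle : ∀ p : PIdx κ, p ≤ top := fun p => ⟨Finset.subset_univ _, Finset.subset_univ _⟩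
  have ht : IsTerminal top := IsTerminal.ofUniqueHom (fun p => homOfLE (hle p)) (fun p m => Subsingleton.elim _ _)
  obtain ⟨e⟩ := nonempty_iso_colimit (G := fun i => (G i).1) (W := fun x k => (W x k).1) π ρ hπ hρ
  let D := partDiagram (G := fun i => (G i).1) (W := fun x k => (W x k).1) π ρ
  haveI : IsIso (colimit.ι D top) := isIso_ι_of_isTerminal ht D
  refine hiso ?_ ⟨asIso (colimit.ι D top) ≪≫ e.symm⟩
  refine hcolim WalkingParallelPair _ (fun k => ?_)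
  cases k
  · exact coproduct_mem hiso hcolim _ (fun r => (W r.1.1 r.1.2).2)
  · exact coproduct_mem hiso hcolim _ (fun i => (G i.1).2)

end Groth.Agent.QCTopos
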