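import Groth.Agent.QCTopos.CohColim
import Groth.Agent.UnivDelta.Comp
import Groth.Agent.SiteCoh.CohPresheaf
import Groth.Prelude.Def_CohSite
import Groth.Prelude.Def_ToposFin2

/-! # Higher direct images commute with filtered colimits -/

set_option autoImplicit false
set_option linter.all false
set_option backward.isDefEq.respectTransparency false
set_option backward.defeqAttrib.useBackward true

universe u

open CategoryTheory CategoryTheory.Limits CategoryTheory.Abelian Opposite

namespace Groth.Agent.QCTopos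

open ToposFin Giraud Groth.Agent.CohAcyc Groth.Agent.UnivDelta

variable {C : Type u} [SmallCategory C] (J : GrothendieckTopology C)

lemma exact_of_eval {D : Type*} [Category D] (S : ShortComplex (D ⥤ AddCommGrpCat.{u}))
    (h : ∀ V, (S.map ((evaluation D AddCommGrpCat.{u}).obj V)).Exact) : S.Exact := by
  rw [ShortComplex.exact_iff_isZero_homology, Functor.isZero_iff]
  intro V
  exact ((ShortComplex.exact_iff_isZero_homology _).1 (h V)).of_iso
    (S.mapHomologyIso ((evaluation D AddCommGrpCat.{u}).obj V)).symm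

/-- the free abelian sheaf on a representable -/
noncomputable abbrev zFree (V : Cᵒᵖ) : Ab J :=
  (presheafToSheaf J AddCommGrpCat.{u}).obj (yoneda.obj V.unop ⋙ AddCommGrpCat.free.{u})

noncomputable abbrev cohP (n : ℕ) : Ab J ⥤ Cᵒᵖ ⥤ AddCommGrpCat.{u} :=
  Sheaf.cohomologyPresheafFunctor.{u} J n

lemma cohP_additive (n : ℕ) : (cohP J n).Additive :=
  ⟨fun {F G} {f g} => by
    ext V x
    show Ext.comp x (Ext.mk₀ (f + g)) (add_zero n) = _
    rw [Ext.mk₀_add, Ext.comp_add]
    rfl⟩

noncomputable def cohDelta {S : ShortComplex (Ab J)} (hS : S.ShortExact) (n : ℕ) :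
    (cohP J n).obj S.X₃ ⟶ (cohP J (n + 1)).obj S.X₁ where
  app V := AddCommGrpCat.ofHom (hS.extClass.postcomp (zFree J V) rfl)
  naturality {V W} g := by
    ext x
    exact Ext.comp_assoc _ _ _ (zero_add n) rfl (by omega)

/-- presheaf cohomology as a delta functor -/
noncomputable def cohPDelta : DeltaFunctor (Ab J) (Cᵒᵖ ⥤ AddCommGrpCat.{u}) where
  F := cohP J
  additive := cohP_additive J
  δ := cohDelta J
  mono₁ {S} hS := by
    haveI := hS.mono_f
    haveI : ∀ V, Mono (((cohP J 0).map S.f).app V) := fun V => by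
      refine (AddCommGrpCat.mono_iff_injective _).2 fun x y h => ?_
      obtain ⟨a, rfl⟩ := Ext.addEquiv₀.symm.surjective x
      obtain ⟨b, rfl⟩ := Ext.addEquiv₀.symm.surjective y
      have h' : Ext.mk₀ (a ≫ S.f) = Ext.mk₀ (b ≫ S.f) :=
        (Ext.mk₀_comp_mk₀ _ _).symm.trans (Eq.trans h (Ext.mk₀_comp_mk₀ _ _))
      rw [(cancel_mono S.f).1 (Ext.addEquiv₀.symm.injective h')]
    exact NatTrans.mono_of_mono_app _
  exact₂ {S} hS n w := exact_of_eval _ fun V => by
    rw [ShortComplex.ab_exact_iff]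
    exact fun x hx => Ext.covariant_sequence_exact₂ (zFree J V) hS x hx
  map_g_δ {S} hS n := by
    ext V x
    show Ext.comp (Ext.comp x (Ext.mk₀ S.g) (add_zero n)) hS.extClass rfl = 0
    rw [Ext.comp_assoc_of_second_deg_zero, hS.comp_extClass]
    exact Ext.comp_zero _ _ _ _ _
  exact₃ {S} hS n := exact_of_eval _ fun V => by
    rw [ShortComplex.ab_exact_iff]
    exact fun x hx => Ext.covariant_sequence_exact₃ (zFree J V) hS x rfl hx
  δ_map_f {S} hS n := by
    ext V x
    show Ext.comp (Ext.comp x hS.extClass rfl) (Ext.mk₀ S.f) (add_zero (n + 1)) = 0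
    rw [Ext.comp_assoc_of_third_deg_zero, hS.extClass_comp]
    exact Ext.comp_zero _ _ _ _ _
  exact₁ {S} hS n := exact_of_eval _ fun V => by
    rw [ShortComplex.ab_exact_iff]
    exact fun x hx => Ext.covariant_sequence_exact₁ (zFree J V) hS x hx rfl
  δ_nat {S S'} hS hS' φ n := by
    ext V x
    show Ext.comp (Ext.comp x (Ext.mk₀ φ.τ₃) (add_zero n)) hS'.extClass rfl =
      Ext.comp (Ext.comp x hS.extClass rfl) (Ext.mk₀ φ.τ₁) (add_zero (n + 1))
    rw [Ext.comp_assoc_of_second_deg_zero, Ext.comp_assoc_of_third_deg_zero,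
      ShortComplex.ShortExact.extClass_naturality hS hS' φ]
  isZero I hI n := by
    rw [Functor.isZero_iff]
    intro V
    haveI : Subsingleton (Ext (zFree J V) I (n + 1)) := Ext.subsingleton_of_injective _ _ n
    exact @AddCommGrpCat.isZero_of_subsingleton _ (inferInstanceAs (Subsingleton (Ext (zFree J V) I (n + 1))))

/-- degree zero -/
noncomputable def cohPZeroIso : cohP J 0 ≅ sheafToPresheaf J AddCommGrpCat.{u} :=
  NatIso.ofComponents (fun F => NatIso.ofComponents
    (fun V => (Ext.addEquiv₀.trans (SiteCoh.secEquiv F V.unop) :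
      Ext (zFree J V) F 0 ≃+ F.obj.obj V).toAddCommGrpIso) (fun {V W} g => by
      ext x
      obtain ⟨a, rfl⟩ := Ext.addEquiv₀.symm.surjective x
      show SiteCoh.secEquiv F W.unop (Ext.addEquiv₀ (Ext.comp (Ext.mk₀ (SiteCoh.freeMap g.unop)) (Ext.mk₀ a) (zero_add 0))) =
        F.obj.map g (SiteCoh.secEquiv F V.unop (Ext.addEquiv₀ (Ext.mk₀ a)))
      rw [Ext.mk₀_comp_mk₀]
      have e : ∀ {X Y : Ab J} (b : X ⟶ Y), Ext.addEquiv₀ (Ext.mk₀ b) = b := fun b => Ext.addEquiv₀.apply_symm_apply b
      rw [e, e]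
      exact SiteCoh.secHom_freeMap g.unop a))
    (fun {F G} f => by
      ext V x
      obtain ⟨a, rfl⟩ := Ext.addEquiv₀.symm.surjective x
      show SiteCoh.secEquiv G V.unop (Ext.addEquiv₀ (Ext.comp (Ext.mk₀ a) (Ext.mk₀ f) (add_zero 0))) =
        f.hom.app V (SiteCoh.secEquiv F V.unop (Ext.addEquiv₀ (Ext.mk₀ a)))
      rw [Ext.mk₀_comp_mk₀]
      have e : ∀ {X Y : Ab J} (b : X ⟶ Y), Ext.addEquiv₀ (Ext.mk₀ b) = b := fun b => Ext.addEquiv₀.apply_symm_apply b
      rw [e, e]
      rfl)

variable {D : Type u} [SmallCategory D] (K : GrothendieckTopology D) (v : D ⥤ C) [v.IsContinuous K J]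

theorem nonempty_Rpush_natIso (q : ℕ) :
    Nonempty (CohSite.Rpush J K v q ≅ cohP J q ⋙ (Functor.whiskeringLeft _ _ AddCommGrpCat.{u}).obj v.op ⋙
      presheafToSheaf K AddCommGrpCat.{u}) := by
  let W := (Functor.whiskeringLeft Dᵒᵖ Cᵒᵖ AddCommGrpCat.{u}).obj v.op
  let L := presheafToSheaf K AddCommGrpCat.{u}
  haveI : PreservesFiniteLimits W := inferInstance
  haveI : PreservesFiniteColimits W := inferInstance
  haveI := (sheafificationAdjunction K AddCommGrpCat.{u}).leftAdjoint_preservesColimits.{0, 0}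
  haveI : PreservesFiniteColimits L := PreservesColimitsOfSize.preservesFiniteColimits _
  haveI : (W ⋙ L).Additive := inferInstance
  let T := (cohPDelta J).post (W ⋙ L) inferInstance (fun S hS => hS.map (W ⋙ L))
  obtain ⟨e⟩ := nonempty_iso_rightDerived T q
  haveI : (T.F 0).Additive := T.additive 0
  let e0 : T.F 0 ≅ CohSite.push J K v :=
    Functor.isoWhiskerRight (cohPZeroIso J) (W ⋙ L) ≪≫
      Functor.isoWhiskerLeft (CohSite.push J K v) (asIso (sheafificationAdjunction K AddCommGrpCat.{u}).counit)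
  exact ⟨(Groth.Agent.UnivDelta.derivedIso e0 q).symm ≪≫ e.symm⟩

/-- higher direct images commute with filtered colimits -/
theorem preservesColimits_Rpush (hE : IsAlgebraic J) (hu : ∀ V : D, IsCoherent (eps J (v.obj V)))
    (Λ : Type u) [SmallCategory Λ] [IsFiltered Λ] (q : ℕ) :
    PreservesColimitsOfShape Λ (CohSite.Rpush J K v q) := by
  obtain ⟨e⟩ := nonempty_Rpush_natIso J K v q
  let W := (Functor.whiskeringLeft Dᵒᵖ Cᵒᵖ AddCommGrpCat.{u}).obj v.op
  haveI : PreservesColimitsOfShape Λ (cohP J q ⋙ W) := by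
    refine preservesColimitsOfShape_of_evaluation _ _ fun V => ?_
    haveI := preservesColimits_coherent (Λ := Λ) hE (hu V.unop) q
    let iV : (zF J).obj (eps J (v.obj V.unop)) ≅ zFree J (v.op.obj V) :=
      (Groth.Agent.CohAcyc.freeSheafIso (v.obj V.unop)).symm
    let e' : (Abelian.extFunctor.{u} q).obj (op (zFree J (v.op.obj V))) ≅ (cohP J q ⋙ W) ⋙ (evaluation _ _).obj V :=
      NatIso.ofComponents (fun F => Iso.refl _) (fun g => rfl)
    exact preservesColimitsOfShape_of_natIso ((Abelian.extFunctor.{u} q).mapIso iV.symm.op ≪≫ e')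
  haveI := (sheafificationAdjunction K AddCommGrpCat.{u}).leftAdjoint_preservesColimits.{u, u}
  haveI : PreservesColimitsOfShape Λ (cohP J q ⋙ W ⋙ presheafToSheaf K AddCommGrpCat.{u}) :=
    preservesColimitsOfShape_of_natIso (Functor.associator (cohP J q) W (presheafToSheaf K AddCommGrpCat.{u}))
  exact preservesColimitsOfShape_of_natIso e.symm

end Groth.Agent.QCTopos
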